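import Mathlib

/-!
# The shape of the centraliser of an involution in `PGU₃(q)`, `q` even

`CentShape q C` records what is needed about that group, and the consequences that are used: the normal
Sylow 2-subgroup, and the centraliser of a nontrivial element of odd order.
-/

set_option autoImplicit false
set_option linter.unusedSectionVars false

namespace Cfsg.Agent.H91.PGUChar

/-- The facts about the centraliser of an involution. -/
structure CentShape (q : ℕ) (C : Type*) [Group C] : Prop where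
  card : Nat.card C = q ^ 3 * (q + 1)
  sylow : ∃ S : Subgroup C, S.Normal ∧ Nat.card S = q ^ 3 ∧
    ∀ c : C, Odd (orderOf c) → c ≠ 1 → ∀ s ∈ S, c * s = s * c → s * s = 1
  cyclic : ∃ c : C, orderOf c = q + 1
  invol_central : ∀ z : C, z * z = 1 → ∀ c : C, c * z = z * c
  card_sq : Nat.card {z : C // z * z = 1} = q

variable {q : ℕ} {C C' : Type*} [Group C] [Group C']

theorem CentShape.congr (h : CentShape q C) (e : C ≃* C') : CentShape q C' where
  card := by rw [← Nat.card_congr e.toEquiv, h.card]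
  sylow := by
    obtain ⟨S, hn, hc, hd⟩ := h.sylow
    refine ⟨S.map e.toMonoidHom, hn.map _ e.surjective, ?_, ?_⟩
    · rw [Subgroup.card_map_of_injective e.injective, hc]
    · intro c ho hne s hs hcs
      obtain ⟨s, hs', rfl⟩ := Subgroup.mem_map.1 hs
      obtain ⟨c, rfl⟩ := e.surjective c
      rw [e.orderOf_eq] at ho
      have hne' : c ≠ 1 := fun h0 => hne (by rw [h0, map_one])
      have h1 := hd c ho hne' s hs' (e.injective (by simpa using hcs))
      have := congrArg e h1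
      simpa using this
  cyclic := by
    obtain ⟨c, hc⟩ := h.cyclic
    exact ⟨e c, by rw [e.orderOf_eq, hc]⟩
  invol_central := by
    intro z hz c
    obtain ⟨z, rfl⟩ := e.surjective z
    obtain ⟨c, rfl⟩ := e.surjective c
    rw [← map_mul, ← map_mul]
    exact congrArg e (h.invol_central z (e.injective (by simpa using hz)) c)
  card_sq := by
    rw [← h.card_sq]
    refine (Nat.card_congr (e.toEquiv.subtypeEquiv fun z => ?_)).symm
    show z * z = 1 ↔ e z * e z = 1
    rw [← map_mul, EmbeddingLike.map_eq_one_iff]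

/-- A power of 2 and its successor. -/
theorem coprime_cube_succ {n : ℕ} (hn : 1 ≤ n) : Nat.Coprime ((2 ^ n) ^ 3) (2 ^ n + 1) := by
  refine Nat.Coprime.pow_left _ (Nat.Coprime.pow_left _ ?_)
  rw [Nat.coprime_two_left, Nat.odd_add_one, Nat.not_odd_iff_even]
  exact Nat.even_pow.2 ⟨even_two, by omega⟩

section
variable [Finite C] {n : ℕ}

/-- An element of odd order has order dividing `q + 1`. -/
theorem CentShape.odd_dvd (h : CentShape (2 ^ n) C) {c : C} (hc : Odd (orderOf c)) :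
    orderOf c ∣ 2 ^ n + 1 := by
  have h1 := orderOf_dvd_natCard c
  rw [h.card, ← pow_mul] at h1
  exact (Nat.Coprime.pow_right _ (Nat.coprime_two_right.2 hc)).dvd_of_dvd_mul_left h1

/-- A 2-subgroup lies in the normal subgroup of order `q ^ 3`. -/
theorem CentShape.two_le (h : CentShape (2 ^ n) C) (hn : 1 ≤ n) {S : Subgroup C} [S.Normal]
    (hS : Nat.card S = (2 ^ n) ^ 3) {c : C} {k : ℕ} (hc : c ^ (2 ^ k) = 1) : c ∈ S := by
  have hi : S.index = 2 ^ n + 1 := by
    have := S.card_mul_index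
    rw [hS, h.card] at this
    exact Nat.eq_of_mul_eq_mul_left (by positivity) this
  have h1 : orderOf (c : C ⧸ S) ∣ 2 ^ k :=
    (orderOf_map_dvd (QuotientGroup.mk' S) c).trans (orderOf_dvd_of_pow_eq_one hc)
  have h2 : orderOf (c : C ⧸ S) ∣ 2 ^ n + 1 := by
    rw [← hi, Subgroup.index]
    exact orderOf_dvd_natCard _
  have hodd : Nat.Coprime (2 ^ k) (2 ^ n + 1) := by
    refine Nat.Coprime.pow_left _ ?_
    rw [Nat.coprime_two_left, Nat.odd_add_one, Nat.not_odd_iff_even]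
    exact Nat.even_pow.2 ⟨even_two, by omega⟩
  have h3 : orderOf (c : C ⧸ S) = 1 := Nat.eq_one_of_dvd_coprimes hodd h1 h2
  exact (QuotientGroup.eq_one_iff c).1 (orderOf_eq_one_iff.1 h3)

/-- A nontrivial element of odd order has a cyclic group of order `q + 1` in its centraliser, and that
centraliser is made of this group and involutions. -/
theorem CentShape.odd_centralizer (h : CentShape (2 ^ n) C) (hn : 1 ≤ n) {d : C}
    (hd : Odd (orderOf d)) (hd1 : d ≠ 1) :
    ∃ r : C, orderOf r = 2 ^ n + 1 ∧ r * d = d * r ∧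
      ∀ x : C, x * d = d * x → ∃ z i, z * z = 1 ∧ x = z * r ^ (i : ℕ) := by
  obtain ⟨S, hSn, hScard, hfix⟩ := h.sylow
  obtain ⟨r, hr⟩ := h.cyclic
  have hq0 : (2 ^ n) ^ 3 ≠ 0 := by positivity
  have hdd : d ^ (2 ^ n + 1) = 1 := orderOf_dvd_iff_pow_eq_one.1 (h.odd_dvd hd)
  have hqodd : Odd (2 ^ n + 1) := by
    rw [Nat.odd_add_one, Nat.not_odd_iff_even]
    exact Nat.even_pow.2 ⟨even_two, by omega⟩
  -- `S` and the powers of `r` cover `C`
  have hcop : Nat.Coprime ((2 ^ n) ^ 3) (2 ^ n + 1) := coprime_cube_succ hn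
  have hcover : ∀ x : C, ∃ s ∈ S, ∃ i : ℕ, x = s * r ^ i := by
    have hc : Subgroup.IsComplement' S (Subgroup.zpowers r) :=
      Subgroup.isComplement'_of_coprime (by rw [hScard, Nat.card_zpowers, hr, h.card])
        (by rwa [hScard, Nat.card_zpowers, hr])
    intro x
    obtain ⟨⟨⟨s, hs⟩, ⟨y, hy⟩⟩, hxy⟩ := hc.2 x
    obtain ⟨i, rfl⟩ := (isOfFinOrder_of_finite r).mem_powers_iff_mem_zpowers.2 hy
    exact ⟨s, hs, i, hxy.symm⟩
  obtain ⟨s₀, hs₀, i, hdi⟩ := hcover d
  set r₁ := r ^ i with hr₁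
  have hr₁pow : r₁ ^ (2 ^ n + 1) = 1 := by
    rw [hr₁, ← pow_mul, mul_comm, pow_mul, ← hr, pow_orderOf_eq_one, one_pow]
  have hr₁odd : Odd (orderOf r₁) := hqodd.of_dvd_nat (orderOf_dvd_of_pow_eq_one hr₁pow)
  have hSodd : ∀ x ∈ S, x ^ (2 ^ n + 1) = 1 → x = 1 := by
    intro x hx hx1
    have h2 : orderOf x ∣ (2 ^ n) ^ 3 := hScard ▸ S.orderOf_dvd_natCard hx
    exact orderOf_eq_one_iff.1
      (Nat.eq_one_of_dvd_coprimes hcop h2 (orderOf_dvd_of_pow_eq_one hx1))
  have hr₁1 : r₁ ≠ 1 := by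
    intro h1
    rw [h1, mul_one] at hdi
    exact hd1 (hSodd d (hdi ▸ hs₀) hdd)
  -- all involutions are in `S`
  have hzS : ∀ z : C, z * z = 1 → z ∈ S := fun z hz =>
    h.two_le hn hScard (k := 1) (by rw [pow_one, pow_two, hz])
  have hev : Even (2 ^ n + 2) := by
    obtain ⟨k, hk⟩ : Even (2 ^ n) := Nat.even_pow.2 ⟨even_two, by omega⟩
    exact ⟨k + 1, by omega⟩
  have hpow : ∀ t z : C, t ^ (2 ^ n + 1) = 1 → z * z = 1 → (t * z) ^ (2 ^ n + 2) = t := by
    intro t z ht hz
    obtain ⟨k, hk⟩ := hev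
    have hc : Commute t z := h.invol_central z hz t
    rw [hc.mul_pow]
    have hzk : z ^ (2 ^ n + 2) = 1 := by
      rw [hk, ← two_mul, pow_mul, pow_two, hz, one_pow]
    rw [hzk, mul_one, pow_succ, ht, one_mul]
  -- counting in the coset of `r₁`
  let T := {t : C // ∃ s : S, (s : C) * r₁ * (s : C)⁻¹ = t}
  have hconjpow : ∀ t : T, (t : C) ^ (2 ^ n + 1) = 1 := by
    rintro ⟨t, s, rfl⟩
    show ((s : C) * r₁ * (s : C)⁻¹) ^ (2 ^ n + 1) = 1
    rw [conj_pow, hr₁pow, mul_one, mul_inv_cancel]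
  have hfib : Nat.card S = Nat.card T * 2 ^ n := by
    classical
    let f : S → T := fun s => ⟨_, s, rfl⟩
    have hk : ∀ t : T, Nat.card {s : S // f s = t} = 2 ^ n := by
      intro t
      obtain ⟨s, hs⟩ := t.2
      rw [← h.card_sq]
      refine Nat.card_congr
        ⟨fun x => ⟨(s : C)⁻¹ * (x.1 : C), ?_⟩,
          fun z => ⟨⟨(s : C) * z.1, mul_mem s.2 (hzS z.1 z.2)⟩, ?_⟩, ?_, ?_⟩
      · have e : (x.1 : C) * r₁ * (x.1 : C)⁻¹ = (s : C) * r₁ * (s : C)⁻¹ :=
          (congrArg Subtype.val x.2).trans hs.symm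
        refine hfix r₁ hr₁odd hr₁1 _ (mul_mem (inv_mem s.2) x.1.2) ?_
        have e2 := congrArg (fun y => (s : C)⁻¹ * y * (x.1 : C)) e
        simpa [mul_assoc] using e2.symm
      · refine Subtype.ext ?_
        show (s : C) * z.1 * r₁ * ((s : C) * z.1)⁻¹ = t
        rw [mul_assoc (s : C), ← h.invol_central z.1 z.2 r₁, mul_inv_rev]
        rw [← hs]; group
      · rintro ⟨⟨x, hx⟩, h'⟩
        exact Subtype.ext (Subtype.ext (mul_inv_cancel_left _ _))
      · rintro ⟨z, hz⟩
        exact Subtype.ext (inv_mul_cancel_left _ _)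
    have := Fintype.ofFinite T
    rw [← Nat.card_congr (Equiv.sigmaFiberEquiv f), Nat.card_sigma]
    simp [hk, Nat.card_eq_fintype_card]
  -- every element of odd order of the coset is a conjugate
  obtain ⟨s, hs⟩ : ∃ s : S, (s : C) * r₁ * (s : C)⁻¹ = d := by
    let g : T × {z : C // z * z = 1} → {x : C // x * r₁⁻¹ ∈ S} := fun p => ⟨p.1.1 * p.2.1, by
      obtain ⟨⟨t, s, rfl⟩, ⟨z, hz⟩⟩ := p
      show (s : C) * r₁ * (s : C)⁻¹ * z * r₁⁻¹ ∈ S
      rw [mul_assoc _ z r₁⁻¹, ← h.invol_central z hz r₁⁻¹, ← mul_assoc]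
      refine mul_mem ?_ (hzS z hz)
      rw [mul_assoc, mul_assoc]
      refine mul_mem s.2 ?_
      rw [← mul_assoc]
      exact hSn.conj_mem _ (inv_mem s.2) r₁⟩
    have ginj : Function.Injective g := by
      rintro ⟨t, z⟩ ⟨t', z'⟩ e
      have e1 : t.1 * z.1 = t'.1 * z'.1 := congrArg Subtype.val e
      have e2 := congrArg (fun x : C => x ^ (2 ^ n + 2)) e1
      simp only [hpow _ _ (hconjpow t) z.2, hpow _ _ (hconjpow t') z'.2] at e2
      rw [e2] at e1
      exact Prod.ext (Subtype.ext e2) (Subtype.ext (mul_left_cancel e1))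
    have hcardR : Nat.card {x : C // x * r₁⁻¹ ∈ S} = Nat.card S :=
      Nat.card_congr ((Equiv.mulRight r₁⁻¹).subtypeEquiv fun x => Iff.rfl)
    have gsurj : Function.Surjective g :=
      ((Nat.bijective_iff_injective_and_card g).2
        ⟨ginj, by rw [hcardR, Nat.card_prod, h.card_sq, hfib]⟩).2
    obtain ⟨⟨t, z⟩, e⟩ := gsurj ⟨d, by rw [hdi, mul_inv_cancel_right]; exact hs₀⟩
    have e1 : t.1 * z.1 = d := congrArg Subtype.val e
    have e2 := congrArg (fun x : C => x ^ (2 ^ n + 2)) e1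
    simp only [hpow _ _ (hconjpow t) z.2, pow_succ d (2 ^ n + 1), hdd, one_mul] at e2
    exact e2 ▸ t.2
  -- the conjugate of `r`
  set r' := (s : C) * r * (s : C)⁻¹ with hr'
  have hr'o : orderOf r' = 2 ^ n + 1 := by
    rw [hr', ← hr]
    exact (MulAut.conj (s : C)).orderOf_eq r
  have hd' : d = r' ^ i := by rw [hr', conj_pow, ← hr₁, hs]
  refine ⟨r', hr'o, by rw [hd']; exact (Commute.self_pow r' i).eq, ?_⟩
  intro x hx
  obtain ⟨s₁, hs₁, j, hxj⟩ := hcover ((s : C)⁻¹ * x * (s : C))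
  set z := (s : C) * s₁ * (s : C)⁻¹ with hz
  have hxz : x = z * r' ^ j := by
    rw [hz, hr', conj_pow]
    have := congrArg (fun y => (s : C) * y * (s : C)⁻¹) hxj
    simpa [mul_assoc] using this
  refine ⟨z, j, ?_, hxz⟩
  have hzS' : z ∈ S := hSn.conj_mem _ hs₁ _
  refine hfix d hd hd1 z hzS' ?_
  have hc1 : Commute d (r' ^ j) := by rw [hd']; exact Commute.pow_pow_self r' i j
  have hz' : z = x * (r' ^ j)⁻¹ := by rw [hxz, mul_inv_cancel_right]
  rw [hz']
  exact (Commute.mul_right (show Commute d x from hx.symm) hc1.inv_right).eq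

end

end Cfsg.Agent.H91.PGUChar
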