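import Cfsg.Agent.H91.PGUChar.Points
import Cfsg.Agent.H38.Invert
import Cfsg.Agent.H38.Counting
import Cfsg.Agent.S2202

/-!
# Two points: the stabiliser and the dichotomy

The stabiliser `D` of two points has order `(q - 1) v` with `v ∣ q + 1`; the elements centralising the
involutions fixing one of the points are those centralising an involution exchanging them, and `v` is
`1` or `q + 1`.
-/

set_option autoImplicit false
set_option linter.unusedSectionVars false
set_option linter.style.haveILetI false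

namespace Cfsg.Agent.H91.PGUChar

open MulAction

universe u v

variable {G : Type u} {Ω : Type v} [Group G] [Finite G] [MulAction G Ω] {n : ℕ}

/-- The involutions fixing a point. -/
def fixInv (G : Type u) {Ω : Type v} [Group G] [MulAction G Ω] (a : Ω) : Set G :=
  {z | (z ≠ 1 ∧ z * z = 1) ∧ z • a = a}

/-- Their centraliser. -/
def cen (G : Type u) {Ω : Type v} [Group G] [MulAction G Ω] (a : Ω) : Subgroup G :=
  Subgroup.centralizer (fixInv G a)

namespace Data

variable (h : Data G Ω n)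
include h

theorem pretrans : IsPretransitive G Ω :=
  haveI := h.two
  isPretransitive_of_is_two_pretransitive

theorem finite : Finite Ω := by
  haveI := h.one_lt
  obtain ⟨a⟩ : Nonempty Ω := inferInstance
  haveI := h.pretrans
  exact Finite.of_surjective (fun g : G => g • a) fun y => exists_smul_eq G a y

theorem two_pow_facts : 4 ≤ 2 ^ n ∧ Even (2 ^ n) ∧ Odd (2 ^ n + 1) ∧ Odd (2 ^ n - 1) ∧
    Nat.Coprime (2 ^ n - 1) (2 ^ n + 1) := by
  have h4 : 2 ^ 2 ≤ 2 ^ n := Nat.pow_le_pow_right (by norm_num) h.hn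
  have he : Even (2 ^ n) := Nat.even_pow.2 ⟨even_two, by have := h.hn; omega⟩
  have ho : Odd (2 ^ n - 1) := by
    obtain ⟨k, hk⟩ := he
    exact ⟨k - 1, by omega⟩
  refine ⟨by simpa using h4, he, he.add_one, ho, ?_⟩
  rw [show 2 ^ n + 1 = (2 ^ n - 1) + 2 by omega, Nat.coprime_self_add_right]
  exact Nat.coprime_two_right.2 ho

theorem exists_inv_fix (a : Ω) : ∃ z : G, (z ≠ 1 ∧ z * z = 1) ∧ z • a = a := by
  have hpos : 0 < Nat.card {z : G // (z ≠ 1 ∧ z * z = 1) ∧ z • a = a} := by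
    rw [h.card_fix a]
    have := h.two_pow_facts.1
    omega
  obtain ⟨⟨z, hz⟩⟩ := (Nat.card_pos_iff.1 hpos).1
  exact ⟨z, hz⟩

theorem cen_eq {a : Ω} {z : G} (hz : z ≠ 1) (hz2 : z * z = 1) (ha : z • a = a) :
    cen G a = Subgroup.centralizer ({z} : Set G) := by
  refine le_antisymm (Subgroup.centralizer_le (by simpa [fixInv] using ⟨⟨hz, hz2⟩, ha⟩))
    fun c hc => Subgroup.mem_centralizer_iff.2 ?_
  rintro w ⟨⟨hw, hw2⟩, hwa⟩
  rw [h.same z w hz hz2 hw hw2 a ha hwa] at hc
  exact (Subgroup.mem_centralizer_singleton_iff.1 hc).symm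

theorem smul_eq_of_commute {a : Ω} {z c : G} (hz : z ≠ 1) (hz2 : z * z = 1) (ha : z • a = a)
    (hc : c * z = z * c) : c • a = a :=
  h.fix_unique z hz hz2 _ _ (by rw [smul_smul, ← hc, mul_smul, ha]) ha

theorem cen_le (a : Ω) : cen G a ≤ stabilizer G a := by
  obtain ⟨z, ⟨hz, hz2⟩, ha⟩ := h.exists_inv_fix a
  intro c hc
  rw [h.cen_eq hz hz2 ha] at hc
  exact h.smul_eq_of_commute hz hz2 ha (Subgroup.mem_centralizer_singleton_iff.1 hc)

theorem shape_cen (a : Ω) : CentShape (2 ^ n) (cen G a) := by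
  obtain ⟨z, ⟨hz, hz2⟩, ha⟩ := h.exists_inv_fix a
  rw [h.cen_eq hz hz2 ha]
  exact h.shape z hz hz2

theorem conj_mem_cen {a : Ω} {g c : G} (hg : g • a = a) (hc : c ∈ cen G a) :
    g * c * g⁻¹ ∈ cen G a := by
  refine Subgroup.mem_centralizer_iff.2 ?_
  rintro w ⟨⟨hw, hw2⟩, hwa⟩
  have hm : g⁻¹ * w * g ∈ fixInv G a := by
    refine ⟨⟨fun e => hw ?_, ?_⟩, ?_⟩
    · have := congrArg (fun y => g * y * g⁻¹) e
      simpa [mul_assoc] using this
    · rw [show g⁻¹ * w * g * (g⁻¹ * w * g) = g⁻¹ * (w * w) * g by group, hw2]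
      group
    · rw [mul_smul, mul_smul, hg, hwa, inv_smul_eq_iff, hg]
  have := congrArg (fun y => g * y * g⁻¹) (Subgroup.mem_centralizer_iff.1 hc _ hm)
  simpa [mul_assoc] using this

theorem card_ne (a : Ω) : Nat.card {c : Ω // c ≠ a} = Nat.card Ω - 1 := by
  classical
  haveI := h.finite
  haveI := Fintype.ofFinite Ω
  rw [Nat.card_eq_fintype_card, Nat.card_eq_fintype_card, Fintype.card_subtype_compl,
    Fintype.card_subtype_eq]

theorem two_le_card : 2 ≤ Nat.card Ω := by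
  haveI := h.one_lt
  haveI := h.finite
  exact Finite.one_lt_card

/-- Orbit and stabiliser for the stabiliser of a point. -/
theorem card_orbit {a b : Ω} (hab : a ≠ b) :
    Nat.card (stabilizer G a) =
      (Nat.card Ω - 1) * Nat.card ↥(stabilizer G a ⊓ stabilizer G b) := by
  haveI := h.finite
  haveI := h.two
  let f : stabilizer G a → {c : Ω // c ≠ a} := fun g => ⟨(g : G) • b, fun e =>
    hab (MulAction.injective (g : G) (e.trans (mem_stabilizer_iff.1 g.2).symm)).symm⟩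
  rw [← h.card_ne a]
  refine H38.card_eq_mul_of_fibers f _ fun c => ?_
  obtain ⟨g₀, hg1, hg2⟩ := is_two_pretransitive_iff.1 h.two hab c.2.symm
  refine Nat.card_congr
    ⟨fun g => ⟨g₀⁻¹ * (g.1 : G), ⟨?_, ?_⟩⟩,
      fun d => ⟨⟨g₀ * d.1, Subgroup.mul_mem _ (show g₀ ∈ stabilizer G a from hg1) d.2.1⟩,
        Subtype.ext ?_⟩, ?_, ?_⟩
  · exact Subgroup.mul_mem _ (inv_mem (show g₀ ∈ stabilizer G a from hg1)) g.1.2
  · show (g₀⁻¹ * (g.1 : G)) • b = b
    rw [mul_smul, inv_smul_eq_iff, hg2]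
    exact congrArg Subtype.val g.2
  · show (g₀ * d.1) • b = c.1
    rw [mul_smul, show d.1 • b = b from d.2.2, hg2]
  · rintro ⟨⟨g, hg⟩, h'⟩
    exact Subtype.ext (Subtype.ext (mul_inv_cancel_left _ _))
  · rintro ⟨d, hd⟩
    exact Subtype.ext (inv_mul_cancel_left _ _)

/-- The number of involutions exchanging two points. -/
theorem card_swappers {a b : Ω} (hab : a ≠ b) :
    Nat.card {z : G // (z ≠ 1 ∧ z * z = 1) ∧ z • a = b} = 2 ^ n - 1 := by
  classical
  haveI := h.finite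
  let Inv := {z : G // z ≠ 1 ∧ z * z = 1}
  choose fx hfx using fun z : Inv => h.fix_ex z.1 z.2.1 z.2.2
  have e1 : Nat.card Inv = Nat.card Ω * (2 ^ n - 1) := by
    refine H38.card_eq_mul_of_fibers fx _ fun c => ?_
    rw [← h.card_fix c]
    exact (Nat.card_congr (Equiv.subtypeEquivRight fun x =>
        ⟨fun e => e ▸ hfx x, fun e => h.fix_unique x.1 x.2.1 x.2.2 _ _ (hfx x) e⟩)).trans
      (Nat.card_congr (Equiv.subtypeSubtypeEquivSubtypeInter
        (fun x : G => x ≠ 1 ∧ x * x = 1) (fun x : G => x • c = c)))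
  let Pr := {p : G × Ω // (p.1 ≠ 1 ∧ p.1 * p.1 = 1) ∧ p.1 • p.2 ≠ p.2}
  have e2 : Nat.card Pr = Nat.card Inv * (Nat.card Ω - 1) := by
    refine H38.card_eq_mul_of_fibers (fun p : Pr => (⟨p.1.1, p.2.1⟩ : Inv)) _ fun z => ?_
    rw [← h.card_ne (fx z)]
    refine Nat.card_congr ⟨fun p => ⟨p.1.1.2, ?_⟩,
      fun c => ⟨⟨(z.1, c.1), z.2, ?_⟩, rfl⟩, ?_, ?_⟩
    · intro e
      have := p.1.2.2
      rw [e, show p.1.1.1 = z.1 from congrArg Subtype.val p.2] at this
      exact this (hfx z)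
    · exact fun e => c.2 (h.fix_unique z.1 z.2.1 z.2.2 _ _ e (hfx z))
    · rintro ⟨⟨⟨x, c⟩, hx⟩, rfl⟩; rfl
    · rintro ⟨c, hc⟩; rfl
  let Pq := {p : Ω × Ω // p.1 ≠ p.2}
  have e3 : Nat.card Pr = Nat.card Pq * Nat.card {z : G // (z ≠ 1 ∧ z * z = 1) ∧ z • a = b} := by
    refine H38.card_eq_mul_of_fibers
      (fun p : Pr => (⟨(p.1.2, p.1.1 • p.1.2), p.2.2.symm⟩ : Pq)) _ fun pr => ?_
    haveI := h.two
    obtain ⟨g, hg1, hg2⟩ := is_two_pretransitive_iff.1 h.two pr.2 hab
    refine (Nat.card_congr (show {p : Pr // (fun p : Pr =>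
        (⟨(p.1.2, p.1.1 • p.1.2), p.2.2.symm⟩ : Pq)) p = pr} ≃
        {z : G // (z ≠ 1 ∧ z * z = 1) ∧ z • pr.1.1 = pr.1.2} from
      ⟨fun p => ⟨p.1.1.1, p.1.2.1, ?_⟩, fun x => ⟨⟨(x.1, pr.1.1), x.2.1, ?_⟩, ?_⟩, ?_, ?_⟩)).trans
      (Nat.card_congr ((MulAut.conj g).toEquiv.subtypeEquiv fun x => ?_))
    · obtain ⟨h1, h2⟩ := Prod.ext_iff.mp (congrArg Subtype.val p.2)
      show p.1.1.1 • pr.1.1 = pr.1.2
      rw [← h1]; exact h2
    · show x.1 • pr.1.1 ≠ pr.1.1
      rw [x.2.2]; exact pr.2.symm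
    · exact Subtype.ext (Prod.ext rfl x.2.2)
    · rintro ⟨⟨⟨x, c⟩, hx⟩, rfl⟩; rfl
    · rintro ⟨x, hx⟩; rfl
    · show _ ↔ (g * x * g⁻¹ ≠ 1 ∧ g * x * g⁻¹ * (g * x * g⁻¹) = 1) ∧ (g * x * g⁻¹) • a = b
      rw [show g * x * g⁻¹ * (g * x * g⁻¹) = g * (x * x) * g⁻¹ by group, ← hg1, ← hg2]
      simp [mul_smul, conj_eq_one_iff]
  have e4 : Nat.card Pq = Nat.card Ω * (Nat.card Ω - 1) := by
    refine H38.card_eq_mul_of_fibers (fun p : Pq => p.1.1) _ fun x => ?_
    rw [← h.card_ne x]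
    refine Nat.card_congr ⟨fun p => ⟨p.1.1.2, fun e => p.1.2 (p.2.trans e.symm)⟩,
      fun c => ⟨⟨(x, c.1), c.2.symm⟩, rfl⟩, ?_, ?_⟩
    · rintro ⟨⟨⟨x, y⟩, hx⟩, rfl⟩; rfl
    · rintro ⟨c, hc⟩; rfl
  have h2 := h.two_le_card
  have hpos : 0 < Nat.card Ω * (Nat.card Ω - 1) := Nat.mul_pos (by omega) (by omega)
  refine Nat.eq_of_mul_eq_mul_left hpos ?_
  rw [← e4, ← e3, e2, e1, e4]
  ring

theorem exists_swapper {a b : Ω} (hab : a ≠ b) :
    ∃ t : G, (t ≠ 1 ∧ t * t = 1) ∧ t • a = b := by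
  have hpos : 0 < Nat.card {z : G // (z ≠ 1 ∧ z * z = 1) ∧ z • a = b} := by
    rw [h.card_swappers hab]
    have := h.two_pow_facts.1
    omega
  obtain ⟨⟨z, hz⟩⟩ := (Nat.card_pos_iff.1 hpos).1
  exact ⟨z, hz⟩

theorem odd_pair {a b : Ω} (hab : a ≠ b) :
    Odd (Nat.card ↥(stabilizer G a ⊓ stabilizer G b)) := by
  haveI : Fact (Nat.Prime 2) := ⟨Nat.prime_two⟩
  rw [← Nat.not_even_iff_odd, even_iff_two_dvd]
  intro hev
  obtain ⟨z, hz⟩ := exists_prime_orderOf_dvd_card' 2 hev
  obtain ⟨h1, h2⟩ := invol_of_orderOf (z := (z : G)) (by rw [Subgroup.orderOf_coe, hz])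
  exact hab (h.fix_unique _ h1 h2 a b z.2.1 z.2.2)

/-- The facts about two points and an involution exchanging them. -/
theorem pair_facts {a b : Ω} {t : G} (hab : a ≠ b) (ht : t ≠ 1) (ht2 : t * t = 1)
    (htab : t • a = b) :
    Nat.card ↥(stabilizer G a ⊓ stabilizer G b) =
        Nat.card ↥(stabilizer G a ⊓ stabilizer G b ⊓ cen G a) * (2 ^ n - 1) ∧
      Nat.card ↥(stabilizer G a ⊓ stabilizer G b ⊓ cen G a) ∣ 2 ^ n + 1 ∧
      stabilizer G a ⊓ stabilizer G b ⊓ cen G a =
        stabilizer G a ⊓ stabilizer G b ⊓ Subgroup.centralizer ({t} : Set G) := by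
  classical
  obtain ⟨h4, heven, hodd1, hodd2, hcop⟩ := h.two_pow_facts
  have hsplit : ∀ {X : Subgroup G}, Odd (Nat.card X) → ∀ {C : Subgroup G},
      CentShape (2 ^ n) C → X ≤ C → Nat.card X ∣ 2 ^ n + 1 := by
    intro X hX C hC hXC
    have h1 := Subgroup.card_dvd_of_le hXC
    rw [hC.card, ← pow_mul] at h1
    exact (Nat.Coprime.pow_right _ (Nat.coprime_two_right.2 hX)).dvd_of_dvd_mul_left h1
  set D := stabilizer G a ⊓ stabilizer G b with hD
  have hoddD : Odd (Nat.card D) := h.odd_pair hab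
  have htba : t • b = a := by rw [← htab, smul_smul, ht2, one_smul]
  have htinv : t⁻¹ = t := inv_eq_of_mul_eq_one_right ht2
  have hnorm : ∀ x ∈ D, t * x * t⁻¹ ∈ D := by
    rintro x ⟨hxa, hxb⟩
    constructor
    · show (t * x * t⁻¹) • a = a
      rw [htinv, mul_smul, mul_smul, htab, show x • b = b from hxb, htba]
    · show (t * x * t⁻¹) • b = b
      rw [htinv, mul_smul, mul_smul, htba, show x • a = a from hxa, htab]
  have hI : Nat.card (Cfsg.invertedBy D t) = 2 ^ n - 1 := by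
    rw [← h.card_swappers hab]
    refine Nat.card_congr ((Equiv.mulLeft t).subtypeEquiv fun x => ?_)
    show x ∈ D ∧ t * x * t⁻¹ = x⁻¹ ↔ ((t * x ≠ 1 ∧ t * x * (t * x) = 1) ∧ (t * x) • a = b)
    constructor
    · rintro ⟨⟨hxa, hxb⟩, hx⟩
      refine ⟨⟨fun e => ?_, ?_⟩, ?_⟩
      · have : x = t := by rw [← htinv]; exact eq_inv_of_mul_eq_one_right e
        rw [this] at hxa
        exact hab ((show t • a = a from hxa).symm.trans htab)
      · rw [show t * x * (t * x) = t * x * t * x by group]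
        nth_rw 2 [← htinv]
        rw [hx, inv_mul_cancel]
      · rw [mul_smul, show x • a = a from hxa, htab]
    · rintro ⟨⟨-, h2⟩, h3⟩
      have hxa : x • a = a := MulAction.injective t (by
        show t • x • a = t • a
        rw [← mul_smul, h3, htab])
      refine ⟨⟨hxa, ?_⟩, ?_⟩
      · show x • b = b
        have hx : x = t * x⁻¹ * t := by
          have := congrArg (fun y => t * x⁻¹ * t * y) h2
          simp only [mul_one] at this
          rw [← this, show t * x⁻¹ * t * (t * x * (t * x)) = t * x⁻¹ * (t * t) * x * (t * x) by group,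
            ht2, show t * x⁻¹ * 1 * x * (t * x) = (t * t) * x by group, ht2, one_mul]
        rw [hx, mul_smul, mul_smul, htba, inv_smul_eq_iff.2 hxa.symm, htab]
      · rw [htinv]
        exact eq_inv_of_mul_eq_one_left (by rw [← h2]; group)
  have hD1 := H38.card_decomp ht2 hoddD hnorm
  rw [hI] at hD1
  set W := D ⊓ Subgroup.centralizer ({t} : Set G) with hW
  set V := D ⊓ cen G a with hV
  have hWdvd : Nat.card W ∣ 2 ^ n + 1 :=
    hsplit (hoddD.of_dvd_nat (Subgroup.card_dvd_of_le inf_le_left)) (h.shape t ht ht2) inf_le_right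
  have hVdvd : Nat.card V ∣ 2 ^ n + 1 :=
    hsplit (hoddD.of_dvd_nat (Subgroup.card_dvd_of_le inf_le_left)) (h.shape_cen a) inf_le_right
  -- the index of the centraliser in the stabiliser
  set K := (cen G a).subgroupOf (stabilizer G a) with hK
  haveI hKn : K.Normal := ⟨fun x hx g => Subgroup.mem_subgroupOf.2
    (h.conj_mem_cen g.2 (Subgroup.mem_subgroupOf.1 hx))⟩
  have hKi : K.index = 2 ^ n - 1 := by
    have h1 := K.card_mul_index
    rw [Nat.card_congr (Subgroup.subgroupOfEquivOfLe (h.cen_le a)).toEquiv, (h.shape_cen a).card,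
      h.card_stab a] at h1
    exact Nat.eq_of_mul_eq_mul_left (by positivity) h1
  have hrel : Nat.card D ∣ Nat.card V * (2 ^ n - 1) := by
    have h1 : (cen G a).relIndex D ∣ 2 ^ n - 1 := by
      rw [← Subgroup.relIndex_subgroupOf (inf_le_left : D ≤ stabilizer G a), ← hKi, hK]
      exact Subgroup.relIndex_dvd_index_of_normal _ _
    have h2 : Nat.card V * (cen G a).relIndex D = Nat.card D := by
      rw [Subgroup.relIndex, ← ((cen G a).subgroupOf D).card_mul_index]
      congr 1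
      rw [← Subgroup.inf_subgroupOf_left]
      exact (Nat.card_congr (Subgroup.subgroupOfEquivOfLe inf_le_left).toEquiv).symm
    rw [← h2]
    exact Nat.mul_dvd_mul_left _ h1
  have hWV : W ≤ V := by
    intro x hx
    refine ⟨hx.1, ?_⟩
    have h1 : (⟨x, hx.1.1⟩ : stabilizer G a) ^ K.index ∈ K := Subgroup.pow_index_mem _ _
    rw [Subgroup.mem_subgroupOf, hKi] at h1
    have h2 : Nat.Coprime (2 ^ n - 1) (orderOf x) :=
      hcop.coprime_dvd_right ((W.orderOf_dvd_natCard hx).trans hWdvd)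
    obtain ⟨m, hm⟩ := exists_pow_eq_self_of_coprime h2
    rw [← hm]
    exact pow_mem h1 _
  have hVW : Nat.card V ∣ Nat.card W := by
    refine (hcop.symm.coprime_dvd_left hVdvd).dvd_of_dvd_mul_right ?_
    rw [← hD1]
    exact Subgroup.card_dvd_of_le inf_le_left
  have hWpos : 0 < Nat.card W := Nat.card_pos
  have heq : W = V := Subgroup.eq_of_le_of_card_ge hWV (Nat.le_of_dvd hWpos hVW)
  exact ⟨by rw [← heq, hD1], hVdvd, heq.symm⟩

/-- An element centralising the involutions at `a` and fixing `b` centralises those at `b`. -/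
theorem mem_cen_other {a b : Ω} (hab : a ≠ b) {d : G} (ha : d • a = a) (hb : d • b = b)
    (hd : d ∈ cen G a) : d ∈ cen G b := by
  obtain ⟨t, ⟨ht, ht2⟩, htab⟩ := h.exists_swapper hab
  have h1 := (h.pair_facts hab ht ht2 htab).2.2
  have h2 := (h.pair_facts hab.symm ht ht2 (show t • b = a by rw [← htab, smul_smul, ht2, one_smul])).2.2
  have h3 : d ∈ stabilizer G a ⊓ stabilizer G b ⊓ cen G a := ⟨⟨ha, hb⟩, hd⟩
  rw [h1, inf_comm (stabilizer G a), ← h2] at h3
  exact h3.2

end Data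

/-- In `SL₂` of characteristic two an element commuting with an involution squares to `1`. -/
theorem sl2_sq {F : Type*} [Field F] [CharP F 2] {z g : Matrix.SpecialLinearGroup (Fin 2) F}
    (hz : z ≠ 1) (hz2 : z * z = 1) (hc : z * g = g * z) : g * g = 1 := by
  have e := congrArg (fun M : Matrix.SpecialLinearGroup (Fin 2) F => (M : Matrix (Fin 2) (Fin 2) F)) hz2
  have c := congrArg (fun M : Matrix.SpecialLinearGroup (Fin 2) F => (M : Matrix (Fin 2) (Fin 2) F)) hc
  have dz : z.1 0 0 * z.1 1 1 - z.1 0 1 * z.1 1 0 = 1 := by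
    rw [← Matrix.det_fin_two]; exact z.2
  have dg : g.1 0 0 * g.1 1 1 - g.1 0 1 * g.1 1 0 = 1 := by
    rw [← Matrix.det_fin_two]; exact g.2
  simp only [Matrix.SpecialLinearGroup.coe_mul, Matrix.SpecialLinearGroup.coe_one] at e c
  have e00 := congrFun (congrFun e 0) 0
  have e11 := congrFun (congrFun e 1) 1
  have c01 := congrFun (congrFun c 0) 1
  have c10 := congrFun (congrFun c 1) 0
  simp only [Matrix.mul_apply, Fin.sum_univ_two, Matrix.one_apply_eq] at e00 e11 c01 c10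
  have h20 : (2 : F) = 0 := CharTwo.two_eq_zero
  have tz : z.1 0 0 = z.1 1 1 := by
    have h3 : (z.1 0 0 - z.1 1 1) * (z.1 0 0 - z.1 1 1) = 0 := by
      linear_combination e00 + e11 + (1 - z.1 0 0 * z.1 1 1 - z.1 0 1 * z.1 1 0) * h20
    exact sub_eq_zero.1 (mul_self_eq_zero.1 h3)
  have tg : g.1 0 0 = g.1 1 1 := by
    by_contra hne
    have hne' : g.1 1 1 - g.1 0 0 ≠ 0 := sub_ne_zero.2 (Ne.symm hne)
    rw [tz] at c01 c10
    have h01 : z.1 0 1 = 0 := by
      have h3 : (g.1 1 1 - g.1 0 0) * z.1 0 1 = 0 := by linear_combination c01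
      exact (mul_eq_zero.1 h3).resolve_left hne'
    have h10 : z.1 1 0 = 0 := by
      have h3 : (g.1 1 1 - g.1 0 0) * z.1 1 0 = 0 := by linear_combination -c10
      exact (mul_eq_zero.1 h3).resolve_left hne'
    have h11 : z.1 1 1 = 1 := by
      rw [h01, zero_mul, sub_zero, tz] at dz
      have : (z.1 1 1 - 1) * (z.1 1 1 - 1) = 0 := by linear_combination dz + (1 - z.1 1 1) * h20
      exact sub_eq_zero.1 (mul_self_eq_zero.1 this)
    refine hz (Subtype.ext (Matrix.ext fun i j => ?_))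
    fin_cases i <;> fin_cases j <;> simp [h01, h10, h11, tz]
  refine Subtype.ext (Matrix.ext fun i j => ?_)
  rw [Matrix.SpecialLinearGroup.coe_mul, Matrix.SpecialLinearGroup.coe_one]
  fin_cases i <;> fin_cases j <;> simp [Matrix.mul_apply, Fin.sum_univ_two]
  · linear_combination dg + g.1 0 0 * tg + (g.1 0 1 * g.1 1 0) * h20
  · linear_combination g.1 0 1 * tg + (g.1 0 1 * g.1 1 1) * h20
  · linear_combination g.1 1 0 * tg + (g.1 1 0 * g.1 1 1) * h20
  · linear_combination dg - g.1 1 1 * tg + (g.1 0 1 * g.1 1 0) * h20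

namespace Data

variable (h : Data G Ω n)
include h

/-- The dichotomy. -/
theorem pair_dichotomy {a b : Ω} (hab : a ≠ b) :
    Nat.card ↥(stabilizer G a ⊓ stabilizer G b ⊓ cen G a) = 1 ∨
      Nat.card ↥(stabilizer G a ⊓ stabilizer G b ⊓ cen G a) = 2 ^ n + 1 := by
  classical
  haveI : Fact (Nat.Prime 2) := ⟨Nat.prime_two⟩
  set V := stabilizer G a ⊓ stabilizer G b ⊓ cen G a with hV
  obtain ⟨t, ⟨ht, ht2⟩, htab⟩ := h.exists_swapper hab
  obtain ⟨-, hdvd, -⟩ := h.pair_facts hab ht ht2 htab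
  refine Classical.or_iff_not_imp_left.2 fun hne => ?_
  haveI : Nontrivial V := Finite.one_lt_card_iff_nontrivial.1 (by
    have : 0 < Nat.card V := Nat.card_pos
    omega)
  obtain ⟨⟨d, hdV⟩, hd1⟩ := exists_ne (1 : V)
  have hd1' : d ≠ 1 := fun e => hd1 (Subtype.ext e)
  obtain ⟨⟨hda, hdb⟩, hdc⟩ := hdV
  set M := Subgroup.centralizer ({d} : Set G) with hM
  have hoddd : Odd (orderOf d) := h.two_pow_facts.2.2.1.of_dvd_nat
    ((V.orderOf_dvd_natCard ⟨⟨hda, hdb⟩, hdc⟩).trans hdvd)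
  have hdfix : ∀ c : Ω, d • c = c → d ∈ cen G c := by
    intro c hc
    rcases eq_or_ne a c with rfl | hac
    · exact hdc
    · exact h.mem_cen_other hac hda hc hdc
  have hinvM : ∀ {z : G}, z ≠ 1 → z * z = 1 → z ∈ M → ∀ {c : Ω}, z • c = c → d • c = c :=
    fun hz hz2 hzM c hzc =>
      h.smul_eq_of_commute hz hz2 hzc (Subgroup.mem_centralizer_singleton_iff.1 hzM).symm
  have hab' : ∀ t' : M, orderOf t' = 2 →
      IsMulCommutative ↥(Subgroup.centralizer ({t'} : Set M)) := by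
    intro t' ht'
    obtain ⟨hz, hz2⟩ := invol_of_orderOf (z := (t' : G)) (by rw [Subgroup.orderOf_coe, ht'])
    obtain ⟨c, hc⟩ := h.fix_ex _ hz hz2
    have hdC : d ∈ cen G c := hdfix c (hinvM hz hz2 t'.2 hc)
    obtain ⟨r, -, -, hr⟩ := (h.shape_cen c).odd_centralizer (by have := h.hn; omega)
      (d := ⟨d, hdC⟩) (by rwa [Subgroup.orderOf_mk]) (fun e => hd1' (congrArg Subtype.val e))
    refine ⟨⟨fun x y => Subtype.ext (Subtype.ext ?_)⟩⟩
    have hmem : ∀ x : Subgroup.centralizer ({t'} : Set M), ((x : M) : G) ∈ cen G c := by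
      intro x
      rw [h.cen_eq hz hz2 hc, Subgroup.mem_centralizer_singleton_iff]
      exact congrArg Subtype.val (Subgroup.mem_centralizer_singleton_iff.1 x.2)
    have hcd : ∀ x : Subgroup.centralizer ({t'} : Set M),
        (⟨_, hmem x⟩ : cen G c) * ⟨d, hdC⟩ = ⟨d, hdC⟩ * ⟨_, hmem x⟩ := fun x =>
      Subtype.ext (Subgroup.mem_centralizer_singleton_iff.1 (x : M).2)
    obtain ⟨z₁, i, hz₁, e₁⟩ := hr _ (hcd x)
    obtain ⟨z₂, j, hz₂, e₂⟩ := hr _ (hcd y)
    have hcomm : (⟨_, hmem x⟩ : cen G c) * ⟨_, hmem y⟩ = ⟨_, hmem y⟩ * ⟨_, hmem x⟩ := by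
      rw [e₁, e₂]
      have c1 : ∀ w, Commute w z₁ := (h.shape_cen c).invol_central z₁ hz₁
      have c2 : ∀ w, Commute w z₂ := (h.shape_cen c).invol_central z₂ hz₂
      exact (((c2 z₁).mul_right ((c1 (r ^ j)).symm)).mul_left
        ((c2 (r ^ i)).mul_right (Commute.pow_pow_self r i j))).eq
    show ((x : M) : G) * (y : M) = ((y : M) : G) * (x : M)
    exact congrArg Subtype.val hcomm
  -- involutions at `a` and at `b` in `M`
  have hsub : ∀ c : Ω, d • c = c → ∀ z : G, z ≠ 1 → z * z = 1 → z • c = c → z ∈ M := by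
    intro c hc z hz hz2 hzc
    rw [hM, Subgroup.mem_centralizer_singleton_iff]
    exact Subgroup.mem_centralizer_iff.1 (hdfix c hc) z ⟨⟨hz, hz2⟩, hzc⟩
  obtain ⟨za, ⟨hza, hza2⟩, hzaa⟩ := h.exists_inv_fix a
  obtain ⟨zb, ⟨hzb, hzb2⟩, hzbb⟩ := h.exists_inv_fix b
  have hzaM := hsub a hda za hza hza2 hzaa
  have hzbM := hsub b hdb zb hzb hzb2 hzbb
  have heven : Even (Nat.card M) := by
    rw [even_iff_two_dvd, ← orderOf_of_invol hza hza2]
    exact M.orderOf_dvd_natCard hzaM
  have hnotc : za * zb ≠ zb * za := fun e =>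
    hab (h.fix_unique zb hzb hzb2 a b (by
      refine h.smul_eq_of_commute hza hza2 hzaa e.symm) hzbb)
  rcases S2202.result heven hab' with hcyc | hnorm | ⟨K, hK, hKfin, A, hA, hAfin, hchar, hAodd, ⟨e⟩⟩
  · exfalso
    obtain ⟨⟨w, ⟨hw, hw2⟩, hwa⟩, hwne⟩ :
        ∃ w : {z : G // (z ≠ 1 ∧ z * z = 1) ∧ z • a = a}, w ≠ ⟨za, ⟨hza, hza2⟩, hzaa⟩ := by
      haveI : Nontrivial {z : G // (z ≠ 1 ∧ z * z = 1) ∧ z • a = a} :=
        Finite.one_lt_card_iff_nontrivial.1 (by
          rw [h.card_fix a]; have := h.two_pow_facts.1; omega)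
      exact exists_ne _
    have hwza : w * za = za * w := by
      have h1 := h.cen_eq hza hza2 hzaa
      rw [h.cen_eq hw hw2 hwa] at h1
      exact Subgroup.mem_centralizer_singleton_iff.1
        (h1 ▸ Subgroup.mem_centralizer_singleton_iff.2 rfl : w ∈ Subgroup.centralizer ({za} : Set G))
    -- the two involutions generate a 2-group
    set z' : M := ⟨za, hzaM⟩
    set w' : M := ⟨w, hsub a hda w hw hw2 hwa⟩
    have hz' : z' * z' = 1 := Subtype.ext hza2
    have hw' : w' * w' = 1 := Subtype.ext hw2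
    have hcm : Commute z' w' := Subtype.ext hwza.symm
    have hz2g : IsPGroup 2 (Subgroup.zpowers z') := IsPGroup.of_card (n := 1) (by
      rw [Nat.card_zpowers, pow_one]
      exact orderOf_of_invol (fun e => hza (congrArg Subtype.val e)) hz')
    have hw2g : IsPGroup 2 (Subgroup.zpowers w') := IsPGroup.of_card (n := 1) (by
      rw [Nat.card_zpowers, pow_one]
      exact orderOf_of_invol (fun e => hw (congrArg Subtype.val e)) hw')
    have hnor : Subgroup.zpowers z' ≤ Subgroup.normalizer (Subgroup.zpowers w' : Set M) := by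
      rw [Subgroup.zpowers_le, Subgroup.mem_normalizer_iff]
      intro x
      constructor
      · rintro ⟨k, rfl⟩
        refine ⟨k, ?_⟩
        show w' ^ k = z' * w' ^ k * z'⁻¹
        rw [(hcm.zpow_right k).eq, mul_inv_cancel_right]
      · rintro ⟨k, hk⟩
        refine ⟨k, ?_⟩
        have hk' : w' ^ k = z' * x * z'⁻¹ := hk
        show w' ^ k = x
        rw [show x = z'⁻¹ * (z' * x * z'⁻¹) * z' by group, ← hk', mul_assoc,
          ← (hcm.zpow_right k).eq, inv_mul_cancel_left]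
    obtain ⟨P, hP⟩ := (hz2g.to_sup_of_normal_right' hw2g hnor).exists_le_sylow
    have := hcyc P
    haveI : Fintype (P : Subgroup M) := Fintype.ofFinite _
    have hle := IsCyclic.card_pow_eq_one_le (α := (P : Subgroup M)) (n := 2) (by norm_num)
    have h3 : ({1, ⟨z', hP (Subgroup.mem_sup_left (Subgroup.mem_zpowers z'))⟩,
        ⟨w', hP (Subgroup.mem_sup_right (Subgroup.mem_zpowers w'))⟩} :
        Finset (P : Subgroup M)).card ≤ 2 := by
      refine le_trans (Finset.card_le_card ?_) hle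
      intro x hx
      simp only [Finset.mem_insert, Finset.mem_singleton] at hx
      rw [Finset.mem_filter]
      refine ⟨Finset.mem_univ _, ?_⟩
      rcases hx with rfl | rfl | rfl
      · exact one_pow 2
      · exact Subtype.ext (by rw [SubmonoidClass.coe_pow, pow_two, hz']; rfl)
      · exact Subtype.ext (by rw [SubmonoidClass.coe_pow, pow_two, hw']; rfl)
    have : ({1, ⟨z', hP (Subgroup.mem_sup_left (Subgroup.mem_zpowers z'))⟩,
        ⟨w', hP (Subgroup.mem_sup_right (Subgroup.mem_zpowers w'))⟩} :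
        Finset (P : Subgroup M)).card = 3 := by
      refine Finset.card_eq_three.2 ⟨_, _, _, ?_, ?_, ?_, rfl⟩
      · exact fun e => hza (congrArg (fun x : (P : Subgroup M) => ((x : M) : G)) e).symm
      · exact fun e => hw (congrArg (fun x : (P : Subgroup M) => ((x : M) : G)) e).symm
      · exact fun e => hwne (Subtype.ext
          (congrArg (fun x : (P : Subgroup M) => ((x : M) : G)) e).symm)
    omega
  · exfalso
    obtain ⟨P⟩ : Nonempty (Sylow 2 M) := inferInstance
    have hin : ∀ {z : G} (hzM : z ∈ M), z ≠ 1 → z * z = 1 →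
        (⟨z, hzM⟩ : M) ∈ (P : Subgroup M) := by
      intro z hzM hz hz2
      have h2g : IsPGroup 2 (Subgroup.zpowers (⟨z, hzM⟩ : M)) := IsPGroup.of_card (n := 1) (by
        rw [Nat.card_zpowers, pow_one, Subgroup.orderOf_mk, orderOf_of_invol hz hz2])
      haveI := hnorm P
      have h3 := h2g.to_sup_of_normal_right P.2
      rw [← (P.3 h3 le_sup_right)]
      exact Subgroup.mem_sup_left (Subgroup.mem_zpowers _)
    haveI : Nontrivial (P : Subgroup M) :=
      ⟨⟨⟨_, hin hzaM hza hza2⟩, 1, fun e =>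
        hza (congrArg (fun x : (P : Subgroup M) => ((x : M) : G)) e)⟩⟩
    haveI := P.2.center_nontrivial
    obtain ⟨k, hk0, hk⟩ := IsPGroup.nontrivial_iff_card (P.2.to_subgroup (Subgroup.center _)) |>.1
      inferInstance
    obtain ⟨w, hw⟩ := exists_prime_orderOf_dvd_card' (G := Subgroup.center (P : Subgroup M)) 2
      (by rw [hk]; exact dvd_pow_self 2 (by omega))
    set wg : G := (((w : (P : Subgroup M)) : M) : G) with hwg
    obtain ⟨hw1, hw2⟩ := invol_of_orderOf (z := wg)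
      (by rw [hwg, Subgroup.orderOf_coe, Subgroup.orderOf_coe, Subgroup.orderOf_coe, hw])
    have hcw : ∀ {z : G} (hzM : z ∈ M), z ≠ 1 → z * z = 1 → z * wg = wg * z := by
      intro z hzM hz hz2
      exact congrArg (fun x : (P : Subgroup M) => ((x : M) : G))
        (Subgroup.mem_center_iff.1 w.2 ⟨_, hin hzM hz hz2⟩)
    refine hnotc ?_
    have h1 := centralizer_eq_of_commute h.shape hza hza2 hw1 hw2 (hcw hzaM hza hza2)
    have h2 := centralizer_eq_of_commute h.shape hzb hzb2 hw1 hw2 (hcw hzbM hzb hzb2)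
    have h3 : za ∈ Subgroup.centralizer ({zb} : Set G) := by
      rw [h2, ← h1]; exact Subgroup.mem_centralizer_singleton_iff.2 rfl
    exact Subgroup.mem_centralizer_singleton_iff.1 h3
  · obtain ⟨r, hro, hrd, -⟩ := (h.shape_cen a).odd_centralizer (by have := h.hn; omega)
      (d := ⟨d, hdc⟩) (by rwa [Subgroup.orderOf_mk]) (fun e => hd1' (congrArg Subtype.val e))
    have hrM : (r : G) ∈ M :=
      Subgroup.mem_centralizer_singleton_iff.2 (congrArg Subtype.val hrd)
    -- `r` is central in `M`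
    set zM : M := ⟨za, hzaM⟩
    have hz1 : (e zM).1 ≠ 1 := by
      intro h1
      have h2 : (e zM).2 * (e zM).2 = 1 :=
        congrArg Prod.snd (show e zM * e zM = 1 by
          rw [← map_mul, show zM * zM = 1 from Subtype.ext hza2, map_one])
      have h3 : (e zM).2 = 1 := by
        have h4 : orderOf (e zM).2 ∣ 2 := orderOf_dvd_of_pow_eq_one (by rw [pow_two, h2])
        exact orderOf_eq_one_iff.1 (Nat.eq_one_of_dvd_coprimes (Nat.coprime_two_left.2 hAodd) h4
          (orderOf_dvd_natCard _))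
      refine hza (congrArg Subtype.val (e.injective (a₁ := zM) (a₂ := 1) ?_))
      rw [map_one]
      exact Prod.ext h1 h3
    have hz2' : (e zM).1 * (e zM).1 = 1 := congrArg Prod.fst (show e zM * e zM = 1 by
      rw [← map_mul, show zM * zM = 1 from Subtype.ext hza2, map_one])
    have hr1 : (e ⟨r, hrM⟩).1 = 1 := by
      haveI := hchar
      have hc : (e zM).1 * (e ⟨r, hrM⟩).1 = (e ⟨r, hrM⟩).1 * (e zM).1 := by
        have h1 : zM * ⟨r, hrM⟩ = ⟨r, hrM⟩ * zM := Subtype.ext (by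
          show za * (r : G) = r * za
          have := r.2
          exact Subgroup.mem_centralizer_iff.1 this za ⟨⟨hza, hza2⟩, hzaa⟩)
        have := congrArg (fun x => (e x).1) h1
        simpa using this
      have hsq := sl2_sq hz1 hz2' hc
      have hpow : (e ⟨r, hrM⟩).1 ^ (2 ^ n + 1) = 1 := by
        have h1 : (⟨r, hrM⟩ : M) ^ (2 ^ n + 1) = 1 := Subtype.ext (by
          show (r : G) ^ (2 ^ n + 1) = 1
          rw [← hro, ← Subgroup.orderOf_coe, pow_orderOf_eq_one])
        have := congrArg (fun x => (e x).1) h1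
        simp only [map_pow, map_one, Prod.fst_one] at this
        exact this
      obtain ⟨k, hk⟩ := h.two_pow_facts.2.2.1
      rw [hk, pow_succ, pow_mul, pow_two, hsq, one_pow, one_mul] at hpow
      exact hpow
    have hcent : ∀ x : M, (⟨r, hrM⟩ : M) * x = x * ⟨r, hrM⟩ := by
      intro x
      refine e.injective ?_
      rw [map_mul, map_mul]
      refine Prod.ext ?_ ?_
      · rw [Prod.fst_mul, Prod.fst_mul, hr1, one_mul, mul_one]
      · rw [Prod.snd_mul, Prod.snd_mul, mul_comm]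
    have hrb : (r : G) • b = b :=
      h.smul_eq_of_commute hzb hzb2 hzbb (congrArg Subtype.val (hcent ⟨zb, hzbM⟩))
    have hrV : (r : G) ∈ V := ⟨⟨h.cen_le a r.2, hrb⟩, r.2⟩
    have h1 := V.orderOf_dvd_natCard hrV
    rw [Subgroup.orderOf_coe, hro] at h1
    exact Nat.dvd_antisymm hdvd h1

end Data

end Cfsg.Agent.H91.PGUChar
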