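import Cfsg.Agent.H91.PGUChar.Dichotomy
import Cfsg.Agent.H53.SUInvol
import Cfsg.Agent.Unitary.Center
import Cfsg.Agent.H86.PrimeGraph.PSLTwoEven
import Cfsg.Agent.Suzuki.Lie
import Cfsg.Agent.S0324
import Cfsg.Prelude.Def_LieRecognition
import Cfsg.Prelude.Def_Sz

/-!
# The normal subgroup `PSU₃(q)`

In both cases of the dichotomy one has a rank-one set-up; the classification of these groups and a
comparison of orders leave `q ^ 3 + 1` points and a normal subgroup isomorphic to `PSU₃(q)`.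
-/

set_option autoImplicit false
set_option linter.unusedSectionVars false
set_option linter.style.haveILetI false

namespace Cfsg.Agent.H91.PGUChar

open MulAction

universe u v

/-- The classification of the rank-one set-ups, as a hypothesis. -/
def RankOneStmt : Prop :=
  ∀ (G : Type u) (Ω : Type u) [Group G] [Finite G] [MulAction G Ω] [FaithfulSMul G Ω] (a : Ω) (t : G)
    (Q : Subgroup G), Cfsg.IsRankOneSetup G Ω a t Q →
    (∃ x y : G, x ≠ 1 ∧ y ≠ 1 ∧ x ≠ y ∧ x * x = 1 ∧ y * y = 1 ∧ x * y = y * x) →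
    ∃ L : Subgroup G, L.Normal ∧ Odd L.index ∧
      ((∃ (F : Type) (_ : Field F) (_ : Fintype F), (∃ n : ℕ, 2 ≤ n ∧ Fintype.card F = 2 ^ n) ∧
          Nonempty (L ≃* Matrix.ProjectiveSpecialLinearGroup (Fin 2) F)) ∨
        Cfsg.Lie.IsoSuzuki L ∨
        (∃ (F : Type) (_ : Field F) (_ : Fintype F) (n : ℕ), 2 ≤ n ∧ Fintype.card F = (2 ^ n) ^ 2 ∧
          Nonempty (L ≃* Cfsg.PSU 3 F (2 ^ n))))

/-! ### Arithmetic -/

theorem two_part_eq {A B x y : ℕ} (hx : Odd x) (hy : Odd y) (h : 2 ^ A * x = 2 ^ B * y) : A = B := by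
  have key : ∀ {A B x y : ℕ}, Odd y → 2 ^ A * x = 2 ^ B * y → A ≤ B := by
    intro A B x y hy h
    exact (Nat.pow_dvd_pow_iff_le_right (by norm_num : 1 < 2)).1
      ((Nat.Coprime.pow_left A (Nat.coprime_two_left.2 hy)).dvd_of_dvd_mul_right ⟨x, h.symm⟩)
  exact le_antisymm (key hy h) (key hx h.symm)

theorem no_psl {q k N : ℕ} (hq : 4 ≤ q) (hk : Odd k)
    (hN : N = q ^ 3 + 1 ∨ N = q ^ 4 + q ^ 3 + 1)
    (h : ((q : ℤ) ^ 6 - 1) * k = N * (((q : ℤ) + 1) * ((q : ℤ) - 1))) : False := by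
  have hk1 : (1 : ℤ) ≤ k := by exact_mod_cast hk.pos
  have hq' : (4 : ℤ) ≤ q := by exact_mod_cast hq
  rcases hN with rfl | rfl
  · push_cast at h
    have h1 : ((q : ℤ) ^ 3 - 1) * k = ((q : ℤ) + 1) * ((q : ℤ) - 1) := by
      have h0 : (q : ℤ) ^ 3 + 1 ≠ 0 := by positivity
      refine mul_left_cancel₀ h0 ?_
      linear_combination h
    have h2 : ((q : ℤ) ^ 3 - 1) * 1 ≤ ((q : ℤ) ^ 3 - 1) * k :=
      mul_le_mul_of_nonneg_left hk1 (by nlinarith)
    nlinarith [mul_le_mul_of_nonneg_right hq' (sq_nonneg (q : ℤ))]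
  · push_cast at h
    have h1 : ((q : ℤ) ^ 4 + q ^ 2 + 1) * k = (q : ℤ) ^ 4 + q ^ 3 + 1 := by
      have h0 : ((q : ℤ) + 1) * ((q : ℤ) - 1) ≠ 0 := by
        have : (0 : ℤ) < ((q : ℤ) + 1) * ((q : ℤ) - 1) := by nlinarith
        omega
      refine mul_left_cancel₀ h0 ?_
      linear_combination h
    have hpos : (0 : ℤ) ≤ (q : ℤ) ^ 4 + q ^ 2 + 1 := by positivity
    rcases eq_or_lt_of_le hk1 with h2 | h2
    · rw [← h2] at h1
      nlinarith
    · have h3 : ((q : ℤ) ^ 4 + q ^ 2 + 1) * 2 ≤ ((q : ℤ) ^ 4 + q ^ 2 + 1) * k :=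
        mul_le_mul_of_nonneg_left (by omega) hpos
      nlinarith

theorem no_sz {r k N : ℕ} (hr : 2 ≤ r)
    (hN : N = r ^ 6 + 1 ∨ N = r ^ 8 + r ^ 6 + 1)
    (h : ((r : ℤ) ^ 6 + 1) * ((r : ℤ) ^ 3 - 1) * k = N * (((r : ℤ) ^ 2 + 1) * ((r : ℤ) ^ 2 - 1))) :
    False := by
  have hr' : (2 : ℤ) ≤ r := by exact_mod_cast hr
  rcases hN with rfl | rfl
  · push_cast at h
    have h1 : ((r : ℤ) ^ 3 - 1) * k = ((r : ℤ) ^ 2 + 1) * ((r : ℤ) ^ 2 - 1) := by
      have h0 : (r : ℤ) ^ 6 + 1 ≠ 0 := by positivity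
      refine mul_left_cancel₀ h0 ?_
      linear_combination h
    have hpos : (0 : ℤ) ≤ (r : ℤ) ^ 3 - 1 := by nlinarith
    rcases le_or_gt (k : ℤ) r with h2 | h2
    · have h3 := mul_le_mul_of_nonneg_left h2 hpos
      nlinarith
    · have h3 := mul_le_mul_of_nonneg_left (show (r : ℤ) + 1 ≤ k by omega) hpos
      nlinarith
  · push_cast at h
    have hs : (4 : ℤ) ≤ (r : ℤ) ^ 2 := by nlinarith
    have h1 : ((r : ℤ) ^ 4 - r ^ 2 + 1) * (((r : ℤ) ^ 3 - 1) * k) =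
        ((r : ℤ) ^ 8 + r ^ 6 + 1) * ((r : ℤ) ^ 2 - 1) := by
      have h0 : (r : ℤ) ^ 2 + 1 ≠ 0 := by positivity
      refine mul_left_cancel₀ h0 ?_
      linear_combination h
    have h2 : ((r : ℤ) ^ 4 - r ^ 2 + 1) *
        (((r : ℤ) ^ 3 - 1) * k - ((r : ℤ) ^ 6 + r ^ 4 - r ^ 2 - 2)) = 1 := by
      linear_combination h1
    have h3 : (0 : ℤ) < (r : ℤ) ^ 4 - r ^ 2 + 1 := by nlinarith
    have h4 : (r : ℤ) ^ 4 - r ^ 2 + 1 = 1 := by
      rcases Int.isUnit_iff.1 (IsUnit.of_mul_eq_one _ h2) with h5 | h5 <;> omega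
    nlinarith

theorem no_psu {q k d : ℕ} (hq : 4 ≤ q) (hd : d = 1 ∨ d = 3)
    (h : ((q : ℤ) ^ 3 + 1) * k = d * ((q : ℤ) ^ 4 + q ^ 3 + 1)) : False := by
  have hq' : (4 : ℤ) ≤ q := by exact_mod_cast hq
  have h1 : ((q : ℤ) ^ 3 + 1) * ((d : ℤ) * (q + 1) - k) = d * q := by linear_combination -h
  have hd' : (1 : ℤ) ≤ d ∧ (d : ℤ) ≤ 3 := by rcases hd with rfl | rfl <;> norm_num
  rcases le_or_gt ((d : ℤ) * (q + 1) - k) 0 with h2 | h2
  · have := mul_nonpos_of_nonneg_of_nonpos (show (0 : ℤ) ≤ (q : ℤ) ^ 3 + 1 by positivity) h2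
    nlinarith
  · have h3 : ((q : ℤ) ^ 3 + 1) * 1 ≤ ((q : ℤ) ^ 3 + 1) * ((d : ℤ) * (q + 1) - k) :=
      mul_le_mul_of_nonneg_left (by omega) (by positivity)
    have h4 : (d : ℤ) * q ≤ 3 * q := mul_le_mul_of_nonneg_right hd'.2 (by omega)
    nlinarith [mul_le_mul_of_nonneg_right (show (16 : ℤ) ≤ (q : ℤ) * q by nlinarith)
      (show (0 : ℤ) ≤ q by omega)]

theorem card_eq_of_psl {m : ℕ} {K : Type} [Field K] [Fintype K] (hm : 2 ≤ m)
    (hK : Fintype.card K = 2 ^ m) :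
    Nat.card (Matrix.ProjectiveSpecialLinearGroup (Fin 2) K) = 2 ^ m * (2 ^ (2 * m) - 1) :=
  H86.PrimeGraph.card_psl_two_even (by omega) hK

/-- A field isomorphism preserves the unitary group. -/
theorem map_mem_SU {E E' : Type*} [Field E] [Field E'] (f : E ≃+* E') {q : ℕ}
    {g : Matrix.SpecialLinearGroup (Fin 3) E} (hg : g ∈ Cfsg.SU 3 E q) :
    Matrix.SpecialLinearGroup.map f.toRingHom g ∈ Cfsg.SU 3 E' q := by
  have hh : ∀ a b : Fin 3 → E, Cfsg.hermForm 3 E' q (f ∘ a) (f ∘ b) =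
      f (Cfsg.hermForm 3 E q a b) := by
    intro a b
    simp [Cfsg.hermForm, map_sum, map_mul, map_pow]
  intro x y
  have hm : ∀ z : Fin 3 → E', Matrix.mulVec (Matrix.SpecialLinearGroup.map f.toRingHom g).1 z =
      f ∘ (Matrix.mulVec g.1 (f.symm ∘ z)) := by
    intro z
    funext i
    simp [Matrix.mulVec, dotProduct, map_sum, map_mul]
  show Cfsg.hermForm 3 E' q (Matrix.mulVec (Matrix.SpecialLinearGroup.map f.toRingHom g).1 x)
    (Matrix.mulVec (Matrix.SpecialLinearGroup.map f.toRingHom g).1 y) = _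
  rw [hm, hm, hh]
  refine (congrArg f (hg (f.symm ∘ x) (f.symm ∘ y))).trans ?_
  rw [← hh]
  congr 1 <;> funext i <;> simp

/-- Special unitary groups over isomorphic fields. -/
theorem psu_equiv {E E' : Type*} [Field E] [Field E'] (f : E ≃+* E') (q : ℕ) :
    Nonempty (Cfsg.PSU 3 E q ≃* Cfsg.PSU 3 E' q) := by
  let g : ↥(Cfsg.SU 3 E q) ≃* ↥(Cfsg.SU 3 E' q) :=
    { toFun := fun x => ⟨_, map_mem_SU f x.2⟩
      invFun := fun x => ⟨_, map_mem_SU f.symm x.2⟩
      left_inv := fun x => Subtype.ext (Subtype.ext (Matrix.ext fun i j => f.symm_apply_apply (x.1.1 i j)))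
      right_inv := fun x => Subtype.ext (Subtype.ext (Matrix.ext fun i j => f.apply_symm_apply (x.1.1 i j)))
      map_mul' := fun x y => Subtype.ext (map_mul _ _ _) }
  refine ⟨QuotientGroup.congr _ _ g ?_⟩
  ext x
  simp only [Subgroup.mem_map, Subgroup.mem_center_iff]
  constructor
  · rintro ⟨y, hy, rfl⟩ z
    obtain ⟨z, rfl⟩ := g.surjective z
    exact (map_mul g z y).symm.trans ((congrArg g (hy z)).trans (map_mul g y z))
  · intro hx
    refine ⟨g.symm x, fun z => g.injective ?_, g.apply_symm_apply x⟩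
    rw [map_mul, map_mul, g.apply_symm_apply, hx]

/-! ### The set-ups -/

variable {G : Type u} {Ω : Type u} [Group G] [Finite G] [MulAction G Ω] {n : ℕ}

theorem mk_setup (h : Data G Ω n) {a b : Ω} {t : G} (hab : a ≠ b) (ht : t ≠ 1) (ht2 : t * t = 1)
    (htab : t • a = b) (Q : Subgroup G) (hle : Q ≤ stabilizer G a)
    (hconj : ∀ g ∈ stabilizer G a, ∀ x ∈ Q, g * x * g⁻¹ ∈ Q)
    (hcard : Nat.card Q = Nat.card Ω - 1) (hdisj : ∀ x ∈ Q, x • b = b → x = 1)
    (heven : Even (Nat.card Q)) : Cfsg.IsRankOneSetup G Ω a t Q where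
  two_transitive := h.two
  mul_self := ht2
  ne_one := ht
  not_mem := fun e => hab ((show t • a = a from e).symm.trans htab)
  le := hle
  conj_mem := hconj
  inf_eq_bot := by
    rw [eq_bot_iff]
    rintro x ⟨hx, hx'⟩
    exact Subgroup.mem_bot.2 (hdisj x hx (htab ▸ hx'))
  sup_eq := by
    classical
    haveI := h.finite
    rw [htab]
    refine le_antisymm (sup_le hle inf_le_left) fun g hg => ?_
    let f : Q → {c : Ω // c ≠ a} := fun x => ⟨(x : G) • b, fun e =>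
      hab (MulAction.injective (x : G) (e.trans (show (x : G) • a = a from hle x.2).symm)).symm⟩
    have hf : Function.Bijective f := by
      refine (Nat.bijective_iff_injective_and_card f).2 ⟨fun x y e => ?_, by rw [h.card_ne, hcard]⟩
      have e' : (x : G) • b = (y : G) • b := congrArg Subtype.val e
      have := hdisj _ (mul_mem (inv_mem y.2) x.2) (by rw [mul_smul, e', inv_smul_smul])
      exact Subtype.ext (inv_mul_eq_one.1 this).symm
    obtain ⟨x, hx⟩ := hf.2 ⟨g • b, fun e =>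
      hab (MulAction.injective g (e.trans (show g • a = a from hg).symm)).symm⟩
    have hx' : (x : G) • b = g • b := congrArg Subtype.val hx
    rw [← mul_inv_cancel_left (x : G) g]
    refine Subgroup.mul_mem_sup x.2 ⟨?_, ?_⟩
    · exact Subgroup.mul_mem _ (inv_mem (hle x.2)) hg
    · show ((x : G)⁻¹ * g) • b = b
      rw [mul_smul, ← hx', inv_smul_smul]
  even_card := heven
  odd_card := htab ▸ h.odd_pair hab

/-- The setup exists and the number of points is known. -/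
theorem exists_setup (h : Data G Ω n) {a b : Ω} (hab : a ≠ b) :
    ∃ (t : G) (Q : Subgroup G), Cfsg.IsRankOneSetup G Ω a t Q ∧
      (Nat.card ↥(stabilizer G a ⊓ stabilizer G b ⊓ cen G a) = 1 ∧
          Nat.card Ω = (2 ^ n) ^ 4 + (2 ^ n) ^ 3 + 1 ∨
        Nat.card ↥(stabilizer G a ⊓ stabilizer G b ⊓ cen G a) = 2 ^ n + 1 ∧
          Nat.card Ω = (2 ^ n) ^ 3 + 1) := by
  obtain ⟨t, ⟨ht, ht2⟩, htab⟩ := h.exists_swapper hab
  obtain ⟨hD, -, -⟩ := h.pair_facts hab ht ht2 htab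
  have h4 := h.two_pow_facts.1
  have heq : (Nat.card Ω - 1) * Nat.card ↥(stabilizer G a ⊓ stabilizer G b ⊓ cen G a) =
      (2 ^ n) ^ 3 * (2 ^ n + 1) := by
    refine Nat.eq_of_mul_eq_mul_right (show 0 < 2 ^ n - 1 by omega) ?_
    rw [mul_assoc, ← hD, ← h.card_orbit hab, h.card_stab a]
  have hΩ := h.two_le_card
  have hev : Even ((2 ^ n) ^ 3) := Nat.even_pow.2 ⟨h.two_pow_facts.2.1, by norm_num⟩
  rcases h.pair_dichotomy hab with hv | hv
  · rw [hv, mul_one] at heq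
    refine ⟨t, cen G a, mk_setup h hab ht ht2 htab _ (h.cen_le a)
      (fun g hg x hx => h.conj_mem_cen hg hx) (by rw [(h.shape_cen a).card, heq]) ?_
      (by rw [(h.shape_cen a).card]; exact hev.mul_right _),
      Or.inl ⟨hv, ?_⟩⟩
    · intro x hx hxb
      exact Subgroup.mem_bot.1 ((Subgroup.eq_bot_of_card_eq _ hv) ▸
        (⟨⟨h.cen_le a hx, hxb⟩, hx⟩ : x ∈ stabilizer G a ⊓ stabilizer G b ⊓ cen G a))
    · have e : (2 ^ n) ^ 3 * (2 ^ n + 1) = (2 ^ n) ^ 4 + (2 ^ n) ^ 3 := by ring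
      omega
  · rw [hv] at heq
    have heq' : Nat.card Ω - 1 = (2 ^ n) ^ 3 := Nat.eq_of_mul_eq_mul_right (Nat.succ_pos _) heq
    obtain ⟨S, hSn, hSc, -⟩ := (h.shape_cen a).sylow
    haveI := hSn
    have hn1 : 1 ≤ n := by have := h.hn; omega
    have hpS : IsPGroup 2 S := IsPGroup.of_card (n := n * 3) (by rw [hSc, ← pow_mul])
    refine ⟨t, S.map (cen G a).subtype, mk_setup h hab ht ht2 htab _
      ((Subgroup.map_subtype_le S).trans (h.cen_le a)) ?_
      (by rw [Subgroup.card_map_of_injective (cen G a).subtype_injective, hSc, heq']) ?_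
      (by rw [Subgroup.card_map_of_injective (cen G a).subtype_injective, hSc]; exact hev),
      Or.inr ⟨hv, by omega⟩⟩
    · intro g hg x hx
      obtain ⟨s, hs, rfl⟩ := Subgroup.mem_map.1 hx
      obtain ⟨k, hk⟩ := hpS ⟨s, hs⟩
      refine ⟨⟨g * (s : G) * g⁻¹, h.conj_mem_cen hg s.2⟩,
        (h.shape_cen a).two_le hn1 hSc (k := k) (Subtype.ext ?_), rfl⟩
      show (g * (s : G) * g⁻¹) ^ 2 ^ k = 1
      rw [conj_pow, show (s : G) ^ 2 ^ k = 1 from
        congrArg (fun z : S => ((z : cen G a) : G)) hk, mul_one, mul_inv_cancel]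
    · intro x hx hxb
      obtain ⟨s, hs, rfl⟩ := Subgroup.mem_map.1 hx
      obtain ⟨k, hk⟩ := hpS ⟨s, hs⟩
      have h1 : orderOf (s : G) ∣ 2 ^ k := orderOf_dvd_of_pow_eq_one
        (congrArg (fun z : S => ((z : cen G a) : G)) hk)
      have h2 : orderOf (s : G) ∣ Nat.card ↥(stabilizer G a ⊓ stabilizer G b) :=
        Subgroup.orderOf_dvd_natCard _ ⟨h.cen_le a s.2, hxb⟩
      exact orderOf_eq_one_iff.1 (Nat.eq_one_of_dvd_coprimes
        (Nat.Coprime.pow_left _ (Nat.coprime_two_left.2 (h.odd_pair hab))) h1 h2)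

/-- The conclusion about the normal subgroup. -/
theorem simple_part (hR1 : RankOneStmt.{u}) (h : Data G Ω n) {F : Type*} [Field F] [Fintype F]
    (hF : Fintype.card F = (2 ^ n) ^ 2) :
    Nat.card Ω = (2 ^ n) ^ 3 + 1 ∧
      (∀ a b : Ω, a ≠ b →
        Nat.card ↥(stabilizer G a ⊓ stabilizer G b ⊓ cen G a) = 2 ^ n + 1) ∧
      ∃ L : Subgroup G, L.Normal ∧ Odd L.index ∧ Nonempty (L ≃* Cfsg.PSU 3 F (2 ^ n)) := by
  classical
  haveI := h.one_lt
  haveI := h.finite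
  haveI := h.faithful
  haveI := h.pretrans
  obtain ⟨a, b, hab⟩ := exists_pair_ne Ω
  obtain ⟨t, Q, hQ, hcases⟩ := exists_setup h hab
  obtain ⟨h4, heven, hodd1, hodd2, -⟩ := h.two_pow_facts
  have h2 : ∃ x y : G, x ≠ 1 ∧ y ≠ 1 ∧ x ≠ y ∧ x * x = 1 ∧ y * y = 1 ∧ x * y = y * x := by
    haveI : Nontrivial {z : G // (z ≠ 1 ∧ z * z = 1) ∧ z • a = a} :=
      Finite.one_lt_card_iff_nontrivial.1 (by rw [h.card_fix a]; omega)
    obtain ⟨⟨x, ⟨hx, hx2⟩, hxa⟩, ⟨y, ⟨hy, hy2⟩, hya⟩, hxy⟩ :=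
      exists_pair_ne {z : G // (z ≠ 1 ∧ z * z = 1) ∧ z • a = a}
    refine ⟨x, y, hx, hy, fun e => hxy (Subtype.ext e), hx2, hy2, ?_⟩
    have : x ∈ Subgroup.centralizer ({y} : Set G) := by
      rw [← h.same x y hx hx2 hy hy2 a hxa hya]
      exact Subgroup.mem_centralizer_singleton_iff.2 rfl
    exact Subgroup.mem_centralizer_singleton_iff.1 this
  obtain ⟨L, hLn, hLodd, hL⟩ := hR1 G Ω a t Q hQ h2
  set N := Nat.card Ω with hNdef
  have hG : Nat.card L * L.index = (2 ^ n) ^ 3 * (N * ((2 ^ n + 1) * (2 ^ n - 1))) := by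
    rw [L.card_mul_index, ← (stabilizer G a).card_mul_index,
      index_stabilizer_of_transitive, h.card_stab a, hNdef]
    ring
  have hN : N = (2 ^ n) ^ 4 + (2 ^ n) ^ 3 + 1 ∨ N = (2 ^ n) ^ 3 + 1 := by
    rcases hcases with ⟨-, hc⟩ | ⟨-, hc⟩
    · exact Or.inl hc
    · exact Or.inr hc
  have hNodd : Odd (N * ((2 ^ n + 1) * (2 ^ n - 1))) := by
    refine Odd.mul ?_ (hodd1.mul hodd2)
    rcases hN with e | e <;> rw [e]
    · exact ((Nat.even_pow.2 ⟨heven, by norm_num⟩).add (Nat.even_pow.2 ⟨heven, by norm_num⟩)).add_one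
    · exact (Nat.even_pow.2 ⟨heven, by norm_num⟩).add_one
  have hcast : ((2 ^ n - 1 : ℕ) : ℤ) = ((2 ^ n : ℕ) : ℤ) - 1 := by
    rw [Nat.cast_sub (by omega)]; norm_num
  rcases hL with ⟨K, hK, hKfin, ⟨m, hm, hKc⟩, ⟨e⟩⟩ | ⟨K, hK, hKfin, k, hk, hKc, ⟨e⟩⟩ |
      ⟨K, hK, hKfin, m, hm, hKc, ⟨e⟩⟩
  · exfalso
    rw [Nat.card_congr e.toEquiv, card_eq_of_psl hm hKc, mul_assoc, ← pow_mul] at hG
    have hodd : Odd ((2 ^ (2 * m) - 1) * L.index) := by
      refine Odd.mul ?_ hLodd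
      obtain ⟨j, hj⟩ : Even (2 ^ (2 * m)) := Nat.even_pow.2 ⟨even_two, by omega⟩
      have := Nat.one_le_two_pow (n := 2 * m)
      exact ⟨j - 1, by omega⟩
    obtain rfl := two_part_eq hodd hNodd hG
    have hG' := Nat.eq_of_mul_eq_mul_left (by positivity) hG
    refine no_psl (q := 2 ^ n) (k := L.index) (N := N) h4 hLodd hN.symm ?_
    rw [show 2 * (n * 3) = n * 6 by ring, pow_mul] at hG'
    have h6 : 1 ≤ (2 ^ n) ^ 6 := Nat.one_le_pow _ _ (by omega)
    zify [h6] at hG'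
    rw [hcast] at hG'
    push_cast at hG' ⊢
    linear_combination hG'
  · exfalso
    haveI : Suzuki.SzField K k := ⟨hKc, hk⟩
    rw [Nat.card_congr (e.trans (Suzuki.lieEquiv k).symm).toEquiv, S0324.result hk hKc,
      mul_assoc, mul_assoc] at hG
    rw [← pow_mul, ← pow_mul] at hG
    have hodd : Odd ((2 ^ ((2 * k + 1) * 2) + 1) * ((2 ^ (2 * k + 1) - 1) * L.index)) := by
      refine Odd.mul (Nat.even_pow.2 ⟨even_two, by omega⟩ : Even (2 ^ ((2 * k + 1) * 2))).add_one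
        (Odd.mul ?_ hLodd)
      obtain ⟨j, hj⟩ : Even (2 ^ (2 * k + 1)) := Nat.even_pow.2 ⟨even_two, by omega⟩
      have := Nat.one_le_two_pow (n := 2 * k + 1)
      exact ⟨j - 1, by omega⟩
    have hexp := two_part_eq hodd hNodd hG
    obtain ⟨j, rfl⟩ : ∃ j, n = 2 * j := ⟨n / 2, by omega⟩
    have hk' : 2 * k + 1 = j * 3 := by omega
    rw [hexp] at hG
    have hG' := Nat.eq_of_mul_eq_mul_left (by positivity) hG
    rw [hk', pow_mul 2 j 3, show (2 * j) * 3 = j * 6 by ring, pow_mul 2 j 6] at hG'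
    rw [show 2 * j = j * 2 by ring, pow_mul] at h4 hN hG' hcast
    have hr : 2 ≤ 2 ^ j := by
      calc 2 = 2 ^ 1 := rfl
        _ ≤ 2 ^ j := Nat.pow_le_pow_right (by norm_num) (by omega)
    generalize 2 ^ j = r at h4 hN hG' hcast hr
    refine no_sz (r := r) (k := L.index) (N := N) hr (by
      rcases hN with e | e
      · exact Or.inr (by rw [e]; ring)
      · exact Or.inl (by rw [e]; ring)) ?_
    have h3 : 1 ≤ r ^ 3 := Nat.one_le_pow _ _ (by omega)
    zify [h3] at hG'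
    rw [hcast] at hG'
    push_cast at hG' ⊢
    linear_combination hG'
  · have hsu := Unitary.card_PSU (n := 3) hKc (by norm_num)
    rw [H53.card_SU_three hKc, ← Nat.card_congr e.toEquiv] at hsu
    set d := Nat.gcd 3 (2 ^ m + 1) with hd
    have hd13 : d = 1 ∨ d = 3 := (Nat.dvd_prime Nat.prime_three).1 (Nat.gcd_dvd_left _ _)
    have hG2 : (2 ^ m) ^ 3 * ((((2 ^ m) ^ 2 - 1) * ((2 ^ m) ^ 3 + 1)) * L.index) =
        (2 ^ n) ^ 3 * (d * (N * ((2 ^ n + 1) * (2 ^ n - 1)))) := by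
      rw [← mul_assoc, ← mul_assoc, ← hsu, mul_assoc, hG]
      ring
    have hodd : Odd ((((2 ^ m) ^ 2 - 1) * ((2 ^ m) ^ 3 + 1)) * L.index) := by
      refine Odd.mul (Odd.mul ?_ ?_) hLodd
      · obtain ⟨j, hj⟩ : Even ((2 ^ m) ^ 2) :=
          Nat.even_pow.2 ⟨Nat.even_pow.2 ⟨even_two, by omega⟩, by norm_num⟩
        have := Nat.one_le_pow 2 (2 ^ m) Nat.one_le_two_pow
        exact ⟨j - 1, by omega⟩
      · exact (Nat.even_pow.2 ⟨Nat.even_pow.2 ⟨even_two, by omega⟩, by norm_num⟩).add_one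
    have hdodd : Odd d := by rcases hd13 with e | e <;> rw [e] <;> decide
    have hG3 := hG2
    rw [← pow_mul, ← pow_mul] at hG3
    have hmn : m = n := by have := two_part_eq hodd (hdodd.mul hNodd) (by simpa [← pow_mul] using hG3); omega
    subst m
    have hG' := Nat.eq_of_mul_eq_mul_left (by positivity) hG2
    have hN1 : N = (2 ^ n) ^ 3 + 1 := by
      rcases hN with e' | e'
      · exfalso
        refine no_psu (q := 2 ^ n) (k := L.index) (d := d) h4 hd13 ?_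
        have h2 : 1 ≤ (2 ^ n) ^ 2 := Nat.one_le_pow _ _ (by omega)
        rw [e'] at hG'
        zify [h2] at hG'
        rw [hcast] at hG'
        push_cast at hG' ⊢
        have h0 : ((2 : ℤ) ^ n + 1) * ((2 : ℤ) ^ n - 1) ≠ 0 := by
          have : (4 : ℤ) ≤ 2 ^ n := by exact_mod_cast h4
          have : (0 : ℤ) < ((2 : ℤ) ^ n + 1) * ((2 : ℤ) ^ n - 1) := by nlinarith
          omega
        refine mul_left_cancel₀ h0 ?_
        linear_combination hG'
      · exact e'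
    refine ⟨hN1, fun a' b' hab' => ?_, L, hLn, hLodd, ?_⟩
    · obtain ⟨t', Q', -, hc⟩ := exists_setup h hab'
      rcases hc with ⟨-, hc⟩ | ⟨hc, -⟩
      · exfalso
        rw [← hNdef, hN1] at hc
        have : 0 < (2 ^ n) ^ 4 := by positivity
        omega
      · exact hc
    · obtain ⟨i⟩ := psu_equiv (FiniteField.ringEquivOfCardEq (K := K) (K' := F) (hKc.trans hF.symm))
        (2 ^ n)
      exact ⟨e.trans i⟩

end Cfsg.Agent.H91.PGUChar
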