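import Cfsg.Agent.H91.PGUChar.Recognise
import Cfsg.Agent.H91.PGUChar.SimplePart

/-!
# `PGU₃(q)`, `q` even, from the centraliser of an involution

`equiv_of_centralizer`: the characterisation, given the dichotomy for groups with a strongly embedded
subgroup and the classification of the rank-one set-ups.
-/

set_option autoImplicit false

namespace Cfsg.Agent.H91.PGUChar

open Cfsg Cfsg.Agent.Unitary

universe u v

/-- The characterisation of `PGU₃(q)`. -/
theorem equiv_of_centralizer (hSE : DichotomyStmt.{u}) (hR1 : RankOneStmt.{u})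
    {G : Type u} [Group G] [Finite G] {F : Type v} [Field F] [Fintype F] [CharP F 2] (q : ℕ)
    (hq : 2 < q) (hF : Fintype.card F = q ^ 2) (heven : Even (Nat.card G))
    (hconj : ∀ s t : G, orderOf s = 2 → orderOf t = 2 → IsConj s t)
    (hC : ∀ (x : G) (y : (↥(Cfsg.GU 3 F q) ⧸ Subgroup.center ↥(Cfsg.GU 3 F q))), orderOf x = 2 →
      orderOf y = 2 → Nonempty (↥(Subgroup.centralizer ({x} : Set G)) ≃*
        ↥(Subgroup.centralizer ({y} : Set (↥(Cfsg.GU 3 F q) ⧸ Subgroup.center ↥(Cfsg.GU 3 F q))))))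
    (hS : ∀ P : Sylow 2 G, ¬ (P : Subgroup G).Normal) :
    Nonempty (G ≃* (↥(Cfsg.GU 3 F q) ⧸ Subgroup.center ↥(Cfsg.GU 3 F q))) := by
  obtain ⟨n, hn, rfl⟩ := exists_two_pow hF hq
  obtain ⟨u, w, f, hfr⟩ := H52.SUThree.exists_frame (q := 2 ^ n) hF
  obtain ⟨y, hy, ⟨i⟩⟩ := exists_involution hF hfr
  have hshape : ∀ z : G, z ≠ 1 → z * z = 1 →
      CentShape (2 ^ n) (Subgroup.centralizer ({z} : Set G)) := by
    intro z hz hz2
    obtain ⟨j⟩ := hC z y (orderOf_of_invol hz hz2) hy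
    exact (centShape_fixU (by omega : 1 ≤ n) rfl hF hfr).congr (i.trans j.symm)
  have hconj' : ∀ z w : G, z ≠ 1 → z * z = 1 → w ≠ 1 → w * w = 1 → ∃ g : G, g * z * g⁻¹ = w :=
    fun z w hz hz2 hw hw2 =>
      isConj_iff.1 (hconj z w (orderOf_of_invol hz hz2) (orderOf_of_invol hw hw2))
  obtain ⟨H, hD⟩ := exists_data hn hshape hSE heven hconj' hS
  obtain ⟨hN, hV, L, hLn, -, ⟨ψ⟩⟩ := simple_part hR1 hD hF
  exact recognise hD hF hN hV hLn ψ

end Cfsg.Agent.H91.PGUChar
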