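import Cfsg.Agent.H91.PGUChar.Cent
import Cfsg.Agent.H72.PSUThree.Stab
import Cfsg.Agent.Unitary.GUCenter
import Cfsg.Prelude.Def_LieClassical

/-!
# `PGU₃(q)`: the rotations, the action on isotropic points and an involution centraliser
-/

set_option autoImplicit false
set_option linter.unusedSectionVars false

namespace Cfsg.Agent.H91.PGUChar

open Cfsg MulAction Cfsg.Agent.Unitary Cfsg.Agent.H52.SUThree Cfsg.Agent.H72.PSUThree
open Matrix hiding vec

variable {F : Type*} [Field F] [Fintype F] {q : ℕ} {u w f : Fin 3 → F}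

/-- The image of a vector. -/
def gap (g : GU 3 F q) (x : Fin 3 → F) : Fin 3 → F :=
  ((g : GL (Fin 3) F) : Matrix (Fin 3) (Fin 3) F) *ᵥ x

theorem gap_mul (g h : GU 3 F q) (x : Fin 3 → F) : gap (g * h) x = gap g (gap h x) := by
  simp [gap, mulVec_mulVec]

theorem gap_one (x : Fin 3 → F) : gap (1 : GU 3 F q) x = x := by simp [gap]

theorem gap_add (g : GU 3 F q) (x y : Fin 3 → F) : gap g (x + y) = gap g x + gap g y :=
  mulVec_add _ _ _

theorem gap_smul (g : GU 3 F q) (a : F) (x : Fin 3 → F) : gap g (a • x) = a • gap g x :=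
  mulVec_smul _ _ _

theorem gap_zero (g : GU 3 F q) : gap g 0 = 0 := mulVec_zero _

theorem gap_inj (g : GU 3 F q) {x y : Fin 3 → F} (h : gap g x = gap g y) : x = y := by
  have := congrArg (gap g⁻¹) h
  rwa [← gap_mul, ← gap_mul, inv_mul_cancel, gap_one, gap_one] at this

theorem herm_gap (g : GU 3 F q) (x y : Fin 3 → F) :
    hermForm 3 F q (gap g x) (gap g y) = hermForm 3 F q x y :=
  mem_GU_iff.1 g.2 x y

theorem gext {g h : GU 3 F q} (e : ∀ x, gap g x = gap h x) : g = h :=
  Subtype.ext (Units.ext (Matrix.ext_iff_mulVec.2 e))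

theorem gext_vec (hfr : Frame q u w f) {g h : GU 3 F q}
    (e : ∀ p r s, gap g (vec u w f p r s) = gap h (vec u w f p r s)) : g = h :=
  gext fun x => by rw [hfr.expand x]; exact e _ _ _

/-- `SU₃` inside `GU₃`. -/
noncomputable def iota : SU 3 F q →* GU 3 F q :=
  (detGU 3 F q).ker.subtype.comp (suEquivKer 3 F q).toMonoidHom

theorem gap_iota (A : SU 3 F q) (x : Fin 3 → F) : gap (iota A) x = ap A x := rfl

theorem det_iota (A : SU 3 F q) : detGU 3 F q (iota A) = 1 := (suEquivKer 3 F q A).2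

theorem iota_injective : Function.Injective (iota (F := F) (q := q)) :=
  Subtype.val_injective.comp (suEquivKer 3 F q).injective

theorem exists_iota {g : GU 3 F q} (h : detGU 3 F q g = 1) : ∃ A, iota A = g :=
  ⟨(suEquivKer 3 F q).symm ⟨g, h⟩,
    congrArg Subtype.val ((suEquivKer 3 F q).apply_symm_apply ⟨g, h⟩)⟩

/-- The elements of norm one. -/
abbrev U1 (q : ℕ) (F : Type*) [Field F] : Subgroup Fˣ := (powMonoidHom (q + 1) : Fˣ →* Fˣ).ker

theorem U1_spec (c : U1 q F) : ((c : Fˣ) : F) ^ q * ((c : Fˣ) : F) = 1 := by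
  have := congrArg Units.val (MonoidHom.mem_ker.1 c.2)
  rwa [powMonoidHom_apply, Units.val_pow_eq_pow_val, pow_succ, Units.val_one] at this

theorem exists_rot (hF : Fintype.card F = q ^ 2) (hfr : Frame q u w f) (c : U1 q F) :
    ∃ g : GU 3 F q, detGU 3 F q g = c ∧
      ∀ p r s, gap g (vec u w f p r s) = vec u w f p (((c : Fˣ) : F) * r) s := by
  set X : Matrix (Fin 3) (Fin 3) F := Matrix.of fun i j => ![u i, w i, f i] j with hX
  set Y : Matrix (Fin 3) (Fin 3) F := Matrix.of ![cj q f, cj q w, cj q u] with hY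
  set D : Matrix (Fin 3) (Fin 3) F := Matrix.diagonal ![1, ((c : Fˣ) : F), 1] with hD
  have hXv : ∀ v : Fin 3 → F, X *ᵥ v = vec u w f (v 0) (v 1) (v 2) := fun v => by
    ext i
    simp [hX, Matrix.mulVec, dotProduct, Fin.sum_univ_three, vec]
    ring
  have hYv : ∀ x, Y *ᵥ x = ![hermForm 3 F q x f, hermForm 3 F q x w, hermForm 3 F q x u] :=
    fun x => by
      ext i
      fin_cases i <;> simp [hY, Matrix.mulVec, herm_eq_dot, dotProduct_comm x]
  have hDv : ∀ v : Fin 3 → F, D *ᵥ v = ![v 0, ((c : Fˣ) : F) * v 1, v 2] := fun v => by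
    ext i
    fin_cases i <;> simp [hD, Matrix.mulVec_diagonal]
  have hpres : Preserves q (X * D * Y) := by
    intro x y
    rw [← mulVec_mulVec, ← mulVec_mulVec, hXv, ← mulVec_mulVec, ← mulVec_mulVec, hXv,
      hfr.herm_vec hF, hDv, hDv, hYv, hYv]
    conv_rhs => rw [hfr.expand x, hfr.expand y, hfr.herm_vec hF]
    simp only [Matrix.cons_val_zero, Matrix.cons_val_one, Matrix.cons_val_two, Matrix.tail_cons,
      Matrix.head_cons, mul_pow]
    linear_combination (hermForm 3 F q x w * hermForm 3 F q y w ^ q) * U1_spec c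
  refine ⟨toGU hF hpres, Units.ext ?_, fun p r s => ?_⟩
  · rw [detGU_val, coe_toGU, det_mul, det_mul, mul_comm (X.det) _, mul_assoc, ← det_mul,
      mul_eq_one_comm.1 hfr.mul_eq_one, det_one, mul_one, hD, det_diagonal, Fin.prod_univ_three]
    simp
  · show ((toGU hF hpres : GL (Fin 3) F) : Matrix (Fin 3) (Fin 3) F) *ᵥ _ = _
    rw [coe_toGU, ← mulVec_mulVec, ← mulVec_mulVec, hYv, hDv, hXv, hfr.coord_f, hfr.coord_w,
      hfr.coord_u]
    simp

/-- The rotation fixing `u` and `f`. -/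
noncomputable def rot (hF : Fintype.card F = q ^ 2) (hfr : Frame q u w f) : U1 q F →* GU 3 F q :=
  MonoidHom.mk' (fun c => (exists_rot hF hfr c).choose) fun a b => gext_vec hfr fun p r s => by
    rw [gap_mul, (exists_rot hF hfr _).choose_spec.2, (exists_rot hF hfr _).choose_spec.2,
      (exists_rot hF hfr _).choose_spec.2]
    congr 1
    push_cast
    ring

theorem gap_rot (hF : Fintype.card F = q ^ 2) (hfr : Frame q u w f) (c : U1 q F) (p r s : F) :
    gap (rot hF hfr c) (vec u w f p r s) = vec u w f p (((c : Fˣ) : F) * r) s :=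
  (exists_rot hF hfr c).choose_spec.2 p r s

theorem det_rot (hF : Fintype.card F = q ^ 2) (hfr : Frame q u w f) (c : U1 q F) :
    detGU 3 F q (rot hF hfr c) = c :=
  (exists_rot hF hfr c).choose_spec.1

theorem gap_rot_u (hF : Fintype.card F = q ^ 2) (hfr : Frame q u w f) (c : U1 q F) :
    gap (rot hF hfr c) u = u := by
  have := gap_rot hF hfr c 1 0 0
  simpa [vec] using this

theorem gap_rot_f (hF : Fintype.card F = q ^ 2) (hfr : Frame q u w f) (c : U1 q F) :
    gap (rot hF hfr c) f = f := by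
  have := gap_rot hF hfr c 0 0 1
  simpa [vec] using this

theorem ok_rot (hF : Fintype.card F = q ^ 2) (c : U1 q F) {b β : F} (h : Ok q b β) :
    Ok q (((c : Fˣ) : F) * b) β := by
  have h1 : β + β ^ q + b * b ^ q = 0 := h
  simp only [Ok, mul_pow]
  linear_combination h1 + (b * b ^ q) * U1_spec c

theorem rot_conj (hF : Fintype.card F = q ^ 2) (hfr : Frame q u w f) (c : U1 q F) {b β : F}
    (h : Ok q b β) :
    rot hF hfr c * iota (eSU hF (h.spec hfr)) =
      iota (eSU hF ((ok_rot hF c h).spec hfr)) * rot hF hfr c :=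
  gext_vec hfr fun p r s => by
    rw [gap_mul, gap_mul, gap_rot, gap_iota, gap_iota, ap_E hF hfr h, gap_rot,
      ap_E hF hfr (ok_rot hF c h), mul_pow]
    congr 1
    · linear_combination (b ^ q * r) * U1_spec c
    · ring

/-- Every element of `GU₃` is one of `SU₃` times a rotation. -/
theorem exists_decompGU (hF : Fintype.card F = q ^ 2) (hfr : Frame q u w f) (g : GU 3 F q) :
    ∃ (A : SU 3 F q) (c : U1 q F), g = iota A * rot hF hfr c := by
  have hmem : detGU 3 F q g ∈ U1 q F :=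
    (detGU_range (n := 3) hF (by norm_num)).le ⟨g, rfl⟩
  obtain ⟨A, hA⟩ := exists_iota (g := g * (rot hF hfr ⟨_, hmem⟩)⁻¹)
    (by rw [map_mul, map_inv, det_rot, mul_inv_cancel])
  exact ⟨A, ⟨_, hmem⟩, by rw [hA, inv_mul_cancel_right]⟩

/-! ### The scalars -/

/-- A scalar of norm one. -/
noncomputable def scalar (hF : Fintype.card F = q ^ 2) {l : F} (hl : l * l ^ q = 1) : GU 3 F q :=
  toGU hF (preserves_smul_one hl)

theorem gap_scalar (hF : Fintype.card F = q ^ 2) {l : F} (hl : l * l ^ q = 1) (x : Fin 3 → F) :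
    gap (scalar hF hl) x = l • x := by
  rw [gap, scalar, coe_toGU, smul_mulVec, one_mulVec]

theorem mem_center_of_smul {g : GU 3 F q} {l : F} (h : ∀ x, gap g x = l • x) :
    g ∈ Subgroup.center (GU 3 F q) :=
  Subgroup.mem_center_iff.2 fun k => gext fun x => by
    rw [gap_mul, gap_mul, h, h, gap_smul]

theorem smul_of_mem_center (hF : Fintype.card F = q ^ 2) {g : GU 3 F q}
    (hg : g ∈ Subgroup.center (GU 3 F q)) : ∃ l : F, l * l ^ q = 1 ∧ ∀ x, gap g x = l • x := by
  obtain ⟨l, h1, h2⟩ := eq_smul_of_mem_center_GU hF hg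
  exact ⟨l, h2, fun x => by rw [gap, h1, smul_mulVec, one_mulVec]⟩

theorem card_center_GU_le (hF : Fintype.card F = q ^ 2) :
    Nat.card (Subgroup.center (GU 3 F q)) ≤ q + 1 := by
  rw [← card_norm_eq_one hF]
  choose l hl hl' using fun g : Subgroup.center (GU 3 F q) => smul_of_mem_center hF g.2
  refine Nat.card_le_card_of_injective (fun g => (⟨l g, hl g⟩ : {x : F // x * x ^ q = 1})) ?_
  intro g g' e
  exact Subtype.ext (gext fun x => by rw [hl', hl', show l g = l g' from congrArg Subtype.val e])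

/-! ### The action on isotropic points -/

noncomputable instance actGU : MulAction (GU 3 F q) (IsoPoint 3 F q) where
  smul g L := ⟨L.1.map ((g : GL (Fin 3) F) : Matrix (Fin 3) (Fin 3) F).mulVecLin, by
    obtain ⟨x, hx0, hx, hL⟩ := L.2
    exact ⟨gap g x, fun h => hx0 (gap_inj g (h.trans (gap_zero g).symm)),
      (herm_gap g x x).trans hx, by rw [← hL, Submodule.map_span, Set.image_singleton]; rfl⟩⟩
  one_smul L := by
    apply Subtype.ext
    show L.1.map ((((1 : GU 3 F q) : GL (Fin 3) F)) : Matrix (Fin 3) (Fin 3) F).mulVecLin = L.1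
    simp [Matrix.mulVecLin_one]
  mul_smul g g' L := by
    apply Subtype.ext
    show L.1.map (((g * g' : GU 3 F q) : GL (Fin 3) F) : Matrix (Fin 3) (Fin 3) F).mulVecLin
      = (L.1.map ((g' : GL (Fin 3) F) : Matrix (Fin 3) (Fin 3) F).mulVecLin).map
        ((g : GL (Fin 3) F) : Matrix (Fin 3) (Fin 3) F).mulVecLin
    rw [← Submodule.map_comp, ← Matrix.mulVecLin_mul]
    simp

theorem gsmul_isoPt {g : GU 3 F q} {x y : Fin 3 → F} (hx0 : x ≠ 0)
    (hx : hermForm 3 F q x x = 0) (hy0 : y ≠ 0) (hy : hermForm 3 F q y y = 0)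
    {l : F} (hl : l ≠ 0) (h : gap g x = l • y) : g • isoPt hx0 hx = isoPt hy0 hy := by
  apply Subtype.ext
  show (Submodule.span F {x}).map _ = Submodule.span F {y}
  rw [Submodule.map_span, Set.image_singleton]
  show Submodule.span F {gap g x} = _
  rw [h, Submodule.span_singleton_smul_eq hl.isUnit y]

theorem iota_smul (A : SU 3 F q) (L : IsoPoint 3 F q) : iota A • L = A • L := rfl

theorem rot_smul_pu (hF : Fintype.card F = q ^ 2) (hfr : Frame q u w f) (c : U1 q F) :
    rot hF hfr c • pu hfr = pu hfr :=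
  gsmul_isoPt (ne_zero_u hfr) hfr.uu (ne_zero_u hfr) hfr.uu one_ne_zero
    (by rw [gap_rot_u, one_smul])

theorem rot_smul_pf (hF : Fintype.card F = q ^ 2) (hfr : Frame q u w f) (c : U1 q F) :
    rot hF hfr c • pf hfr = pf hfr :=
  gsmul_isoPt (ne_zero_f hfr) hfr.ff (ne_zero_f hfr) hfr.ff one_ne_zero
    (by rw [gap_rot_f, one_smul])

theorem rot_smul_E_pf (hF : Fintype.card F = q ^ 2) (hfr : Frame q u w f) (c : U1 q F) {b β : F}
    (h : Ok q b β) :
    rot hF hfr c • (eSU hF (h.spec hfr) • pf hfr) =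
      eSU hF ((ok_rot hF c h).spec hfr) • pf hfr := by
  rw [← iota_smul, smul_smul, rot_conj hF hfr c h, mul_smul, rot_smul_pf, iota_smul]

/-- The action of `GU₃` on the isotropic points. -/
noncomputable abbrev guPerm (q : ℕ) (F : Type*) [Field F] [Fintype F] :
    GU 3 F q →* Equiv.Perm (IsoPoint 3 F q) :=
  toPermHom (GU 3 F q) (IsoPoint 3 F q)

theorem guPerm_iota (A : SU 3 F q) :
    guPerm q F (iota A) = toPermHom (SU 3 F q) (IsoPoint 3 F q) A :=
  Equiv.ext fun L => iota_smul A L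

theorem gap_E_f (hF : Fintype.card F = q ^ 2) (hfr : Frame q u w f) {b β : F} (h : Ok q b β) :
    gap (iota (eSU hF (h.spec hfr))) f = vec u w f β b 1 := ap_E_f hF hfr h

theorem ker_guPerm (hF : Fintype.card F = q ^ 2) :
    (guPerm q F).ker = Subgroup.center (GU 3 F q) := by
  obtain ⟨u, w, f, hfr⟩ := exists_frame (q := q) hF
  ext g
  constructor
  · intro hg
    rw [MonoidHom.mem_ker] at hg
    have hfix : ∀ x : Fin 3 → F, x ≠ 0 → hermForm 3 F q x x = 0 → ∃ l : F, gap g x = l • x := by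
      intro x hx0 hx
      have := congrArg Subtype.val (Equiv.ext_iff.1 hg (isoPt hx0 hx))
      have hm : gap g x ∈ (isoPt hx0 hx : IsoPoint 3 F q).1 := by
        have h2 : gap g x ∈ (g • isoPt hx0 hx : IsoPoint 3 F q).1 :=
          Submodule.mem_map_of_mem (Submodule.mem_span_singleton_self x)
        rwa [show (g • isoPt hx0 hx : IsoPoint 3 F q).1 = (isoPt hx0 hx : IsoPoint 3 F q).1 from
          this] at h2
      obtain ⟨l, hl⟩ := Submodule.mem_span_singleton.1 hm
      exact ⟨l, hl.symm⟩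
    obtain ⟨lu, hlu⟩ := hfix u (ne_zero_u hfr) hfr.uu
    obtain ⟨lf, hlf⟩ := hfix f (ne_zero_f hfr) hfr.ff
    obtain ⟨ν, hν⟩ : ∃ ν : F, gap g w = ν • w := by
      refine ⟨hermForm 3 F q (gap g w) w, ?_⟩
      have h1 := herm_gap g f u
      rw [hlu, hlf, herm_smul_left, herm_smul_right, hfr.fu, mul_one] at h1
      have hlu0 : lu ^ q ≠ 0 := fun h0 => by rw [h0, mul_zero] at h1; exact zero_ne_one h1
      have hlf0 : lf ≠ 0 := fun h0 => by rw [h0, zero_mul] at h1; exact zero_ne_one h1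
      have e1 : hermForm 3 F q (gap g w) f = 0 := by
        have h2 := herm_gap g w f
        rw [hlf, herm_smul_right, hfr.wf] at h2
        exact (mul_eq_zero.1 h2).resolve_left ((pow_q_eq_zero_iff hF).not.2 hlf0)
      have e2 : hermForm 3 F q (gap g w) u = 0 := by
        have h2 := herm_gap g w u
        rw [hlu, herm_smul_right, hfr.wu] at h2
        exact (mul_eq_zero.1 h2).resolve_left hlu0
      conv_lhs => rw [hfr.expand (gap g w), e1, e2]
      simp [vec]
    obtain ⟨β, hβ⟩ := exists_ok (q := q) hF (1 : F)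
    have hv0 : vec u w f β 1 1 ≠ 0 := fun h0 => by
      have := congrArg (fun x => hermForm 3 F q x u) h0
      simp only [hfr.coord_u] at this
      simp [hermForm] at this
    have hv : hermForm 3 F q (vec u w f β 1 1) (vec u w f β 1 1) = 0 := by
      rw [← ap_E_f hF hfr hβ, herm_ap, hfr.ff]
    obtain ⟨l, hl⟩ := hfix _ hv0 hv
    have e : gap g (vec u w f β 1 1) = vec u w f (lu * β) ν lf := by
      simp only [vec, gap_add, gap_smul, hlu, hν, hlf, one_smul]
      module
    rw [e, H72.PSUThree.vec_smul] at hl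
    obtain ⟨h1, h2, h3⟩ := vec_inj hfr hl
    rw [mul_one] at h2 h3
    have hβ0 : β ≠ 0 := by
      rintro rfl
      have h5 : (0 : F) + 0 ^ q + 1 * 1 ^ q = 0 := hβ
      simp [q_ne_zero hF] at h5
    have h1' : lu = l := mul_right_cancel₀ hβ0 h1
    refine mem_center_of_smul (l := l) fun x => ?_
    conv_lhs => rw [hfr.expand x]
    conv_rhs => rw [hfr.expand x]
    simp only [vec, gap_add, gap_smul, hlu, hν, hlf, h1', h2, h3]
    module
  · intro hg
    obtain ⟨l, hl, hl'⟩ := smul_of_mem_center hF hg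
    have hl0 : l ≠ 0 := fun h0 => by rw [h0, zero_mul] at hl; exact zero_ne_one hl
    rw [MonoidHom.mem_ker]
    refine Equiv.ext fun L => ?_
    obtain ⟨x, hx0, hx, rfl⟩ := exists_isoPt L
    exact gsmul_isoPt hx0 hx hx0 hx hl0 (hl' x)

/-- `PGU₃(q)` is its image on the isotropic points. -/
theorem equiv_range (hF : Fintype.card F = q ^ 2) :
    Nonempty ((GU 3 F q ⧸ Subgroup.center (GU 3 F q)) ≃* (guPerm q F).range) :=
  ⟨(QuotientGroup.quotientMulEquivOfEq (ker_guPerm hF).symm).trans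
    (QuotientGroup.quotientKerEquivRange _)⟩

theorem card_SU_le_range (hF : Fintype.card F = q ^ 2) :
    Nat.card (SU 3 F q) ≤ Nat.card (guPerm q F).range := by
  have h := (guPerm q F).ker.card_mul_index
  rw [Subgroup.index_ker, card_GU_eq_mul_card_SU hF (by norm_num : 1 ≤ 3), ker_guPerm hF] at h
  by_contra hlt
  push Not at hlt
  have := Nat.mul_lt_mul_of_le_of_lt (card_center_GU_le hF) hlt (Nat.succ_pos q)
  omega

theorem range_guPerm_le (hF : Fintype.card F = q ^ 2) (hfr : Frame q u w f)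
    {R : Subgroup (Equiv.Perm (IsoPoint 3 F q))}
    (h1 : ∀ A : SU 3 F q, toPermHom (SU 3 F q) (IsoPoint 3 F q) A ∈ R)
    (h2 : ∀ c : U1 q F, guPerm q F (rot hF hfr c) ∈ R) : (guPerm q F).range ≤ R := by
  rintro _ ⟨g, rfl⟩
  obtain ⟨A, c, rfl⟩ := exists_decompGU hF hfr g
  rw [map_mul, guPerm_iota]
  exact mul_mem (h1 A) (h2 c)

/-! ### An involution centraliser -/

/-- The elements fixing the vector `u`. -/
def fixU (q : ℕ) (u : Fin 3 → F) : Subgroup (GU 3 F q) where
  carrier := {g | gap g u = u}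
  one_mem' := gap_one u
  mul_mem' {a b} ha hb := by
    show gap (a * b) u = u
    rw [gap_mul, hb, ha]
  inv_mem' {a} ha := by
    show gap a⁻¹ u = u
    conv_lhs => rw [← (show gap a u = u from ha), ← gap_mul, inv_mul_cancel, gap_one]

theorem mem_fixU {g : GU 3 F q} : g ∈ fixU q u ↔ gap g u = u := Iff.rfl

theorem iota_mem_fixU (hF : Fintype.card F = q ^ 2) (hfr : Frame q u w f) {b β : F} (h : Ok q b β) :
    iota (eSU hF (h.spec hfr)) ∈ fixU q u := ap_E_u hF hfr h

theorem rot_mem_fixU (hF : Fintype.card F = q ^ 2) (hfr : Frame q u w f) (c : U1 q F) :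
    rot hF hfr c ∈ fixU q u := gap_rot_u hF hfr c

theorem exists_decomp_fixU (hF : Fintype.card F = q ^ 2) (hfr : Frame q u w f) {g : GU 3 F q}
    (hg : g ∈ fixU q u) :
    ∃ (b β : F) (h : Ok q b β) (c : U1 q F),
      g = iota (eSU hF (h.spec hfr)) * rot hF hfr c := by
  obtain ⟨A, c, rfl⟩ := exists_decompGU hF hfr g
  have hA : A ∈ uni u := by
    rw [H72.PSUThree.mem_uni, ← gap_iota]
    have h1 : gap (iota A * rot hF hfr c) u = u := hg
    rwa [gap_mul, gap_rot_u] at h1
  obtain ⟨b, β, h, rfl⟩ := (mem_uni_iff hF hfr).1 hA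
  exact ⟨b, β, h, c, rfl⟩

theorem decomp_fixU_inj (hF : Fintype.card F = q ^ 2) (hfr : Frame q u w f) {b β b' β' : F}
    (h : Ok q b β) (h' : Ok q b' β') {c c' : U1 q F}
    (e : iota (eSU hF (h.spec hfr)) * rot hF hfr c =
      iota (eSU hF (h'.spec hfr)) * rot hF hfr c') : b = b' ∧ β = β' ∧ c = c' := by
  have h1 := congrArg (detGU 3 F q) e
  simp only [map_mul, det_iota, det_rot, one_mul] at h1
  obtain rfl : c = c' := Subtype.ext h1
  obtain ⟨h2, h3⟩ := E_inj hF hfr h h' (iota_injective (mul_right_cancel e))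
  exact ⟨h2, h3, rfl⟩

theorem two_eq_zero [CharP F 2] (x : F) : x + x = 0 := CharTwo.add_self_eq_zero x

theorem centShape_fixU [CharP F 2] {n : ℕ} (hn : 1 ≤ n) (hq : q = 2 ^ n)
    (hF : Fintype.card F = q ^ 2) (hfr : Frame q u w f) : CentShape q (fixU q u) := by
  classical
  have hcard : Nat.card (fixU q u) = q ^ 3 * (q + 1) := by
    rw [← card_ok hF, ← card_ker_pow hF, ← Nat.card_prod]
    refine (Nat.card_congr (Equiv.ofBijective
      (fun p : {p : F × F // Ok q p.1 p.2} × U1 q F =>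
        (⟨_, mul_mem (iota_mem_fixU hF hfr p.1.2) (rot_mem_fixU hF hfr p.2)⟩ : fixU q u))
      ⟨?_, ?_⟩)).symm
    · rintro ⟨p, c⟩ ⟨p', c'⟩ e
      obtain ⟨h1, h2, h3⟩ := decomp_fixU_inj hF hfr p.2 p'.2 (congrArg Subtype.val e)
      exact Prod.ext (Subtype.ext (Prod.ext h1 h2)) h3
    · rintro ⟨g, hg⟩
      obtain ⟨b, β, h, c, rfl⟩ := exists_decomp_fixU hF hfr hg
      exact ⟨(⟨(b, β), h⟩, c), rfl⟩
  let S : Subgroup (fixU q u) := ((detGU 3 F q).comp (fixU q u).subtype).ker
  have hSmem : ∀ g : fixU q u, g ∈ S ↔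
      ∃ (b β : F) (h : Ok q b β), (g : GU 3 F q) = iota (eSU hF (h.spec hfr)) := by
    intro g
    constructor
    · intro hg
      obtain ⟨b, β, h, c, e⟩ := exists_decomp_fixU hF hfr g.2
      have hd : detGU 3 F q (g : GU 3 F q) = 1 := MonoidHom.mem_ker.1 hg
      rw [e, map_mul, det_iota, det_rot, one_mul] at hd
      obtain rfl : c = 1 := Subtype.ext hd
      exact ⟨b, β, h, by rw [e, map_one, mul_one]⟩
    · rintro ⟨b, β, h, e⟩
      rw [MonoidHom.mem_ker, MonoidHom.comp_apply, Subgroup.subtype_apply, e, det_iota]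
  have hScard : Nat.card S = q ^ 3 := by
    rw [← card_ok hF]
    refine (Nat.card_congr (Equiv.ofBijective
      (fun p : {p : F × F // Ok q p.1 p.2} =>
        (⟨⟨_, iota_mem_fixU hF hfr p.2⟩, (hSmem _).2 ⟨_, _, p.2, rfl⟩⟩ : S)) ⟨?_, ?_⟩)).symm
    · intro p p' e
      obtain ⟨h1, h2⟩ := E_inj hF hfr p.2 p'.2
        (iota_injective (congrArg (fun x : S => ((x : fixU q u) : GU 3 F q)) e))
      exact Subtype.ext (Prod.ext h1 h2)
    · rintro ⟨g, hg⟩
      obtain ⟨b, β, h, e⟩ := (hSmem g).1 hg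
      exact ⟨⟨(b, β), h⟩, Subtype.ext (Subtype.ext e.symm)⟩
  have hUodd : ∀ c : U1 q F, c * c = 1 → c = 1 := by
    intro c hc
    have h1 : orderOf c ∣ 2 := orderOf_dvd_of_pow_eq_one (by rw [pow_two, hc])
    have h2 : orderOf c ∣ q + 1 := (card_ker_pow (F := F) hF) ▸ orderOf_dvd_natCard c
    have hcop : Nat.Coprime 2 (q + 1) := by
      rw [Nat.coprime_two_left, Nat.odd_add_one, Nat.not_odd_iff_even, hq]
      exact Nat.even_pow.2 ⟨even_two, by omega⟩
    exact orderOf_eq_one_iff.1 (Nat.eq_one_of_dvd_coprimes hcop h1 h2)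
  have hinv : ∀ z : fixU q u, z * z = 1 →
      ∃ (β : F) (h : Ok q (0 : F) β), (z : GU 3 F q) = iota (eSU hF (h.spec hfr)) := by
    intro z hz
    obtain ⟨b, β, h, c, e⟩ := exists_decomp_fixU hF hfr z.2
    have hz' : (z : GU 3 F q) * z = 1 := congrArg Subtype.val hz
    have hc : c = 1 := hUodd c (by
      have := congrArg (detGU 3 F q) hz'
      rw [e] at this
      simp only [map_mul, det_iota, det_rot, one_mul, map_one] at this
      exact Subtype.ext this)
    subst hc
    rw [map_one, mul_one] at e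
    rw [e, ← map_mul, E_mul hF hfr h h, ← map_one iota, ← E_zero hF hfr] at hz'
    obtain ⟨-, h2⟩ := E_inj hF hfr (h.add hF h) (Ok.zero hF) (iota_injective hz')
    rw [two_eq_zero, zero_sub, neg_eq_zero] at h2
    have hb : b = 0 := by
      rcases mul_eq_zero.1 h2 with h3 | h3
      · exact h3
      · exact (pow_q_eq_zero_iff hF).1 h3
    subst hb
    exact ⟨β, h, e⟩
  have hsq : ∀ (β : F) (h : Ok q (0 : F) β),
      iota (eSU hF (h.spec hfr)) * iota (eSU hF (h.spec hfr)) = 1 := by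
    intro β h
    rw [← map_mul, E_mul hF hfr h h, ← map_one iota, ← E_zero hF hfr]
    congr 1
    exact E_congr hF hfr (h.add hF h) (Ok.zero hF) (add_zero 0)
      (by rw [zero_mul, sub_zero, two_eq_zero])
  refine ⟨hcard, ⟨S, inferInstance, hScard, ?_⟩, ?_, ?_, ?_⟩
  · intro x hodd hx1 s hs hcomm
    obtain ⟨a, α, ha, c, e⟩ := exists_decomp_fixU hF hfr x.2
    obtain ⟨b, β, hb, es⟩ := (hSmem s).1 hs
    have hc : c ≠ 1 := by
      rintro rfl
      rw [map_one, mul_one] at e
      have h1 : orderOf x ∣ q ^ 3 := hScard ▸ S.orderOf_dvd_natCard ((hSmem x).2 ⟨a, α, ha, e⟩)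
      refine hx1 (orderOf_eq_one_iff.1 ?_)
      generalize orderOf x = o at h1 hodd
      rw [hq, ← pow_mul] at h1
      exact Nat.eq_one_of_dvd_coprimes (Nat.Coprime.pow_left _ (Nat.coprime_two_left.2 hodd)) h1
          (dvd_refl _)
    have h1 : (x : GU 3 F q) * s = s * x := congrArg Subtype.val hcomm
    rw [e, es, mul_assoc, rot_conj hF hfr c hb, ← mul_assoc, ← mul_assoc, ← map_mul, ← map_mul,
      E_mul hF hfr ha (ok_rot hF c hb), E_mul hF hfr hb ha] at h1
    obtain ⟨h2, -⟩ := E_inj hF hfr (ha.add hF (ok_rot hF c hb)) (hb.add hF ha)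
      (iota_injective (mul_right_cancel h1))
    have hb0 : b = 0 := by
      by_contra hb0
      refine hc (Subtype.ext (Units.ext ?_))
      show ((c : Fˣ) : F) = 1
      have h3 : ((c : Fˣ) : F) * b = 1 * b := by linear_combination h2
      exact mul_right_cancel₀ hb0 h3
    subst hb0
    exact Subtype.ext (by rw [Subgroup.coe_mul, es]; exact hsq β hb)
  · obtain ⟨c, hc⟩ := IsCyclic.exists_generator (α := U1 q F)
    refine ⟨⟨rot hF hfr c, rot_mem_fixU hF hfr c⟩, ?_⟩
    rw [Subgroup.orderOf_mk, orderOf_injective (rot hF hfr) (fun a b hab => Subtype.ext (by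
      rw [← det_rot hF hfr a, hab, det_rot])), orderOf_eq_card_of_forall_mem_zpowers hc,
      card_ker_pow hF]
  · intro z hz x
    obtain ⟨β, hβ, ez⟩ := hinv z hz
    obtain ⟨a, α, ha, c, e⟩ := exists_decomp_fixU hF hfr x.2
    refine Subtype.ext ?_
    rw [Subgroup.coe_mul, Subgroup.coe_mul, e, ez, mul_assoc, rot_conj hF hfr c hβ, ← mul_assoc,
      ← mul_assoc, ← map_mul, ← map_mul, E_mul hF hfr ha (ok_rot hF c hβ), E_mul hF hfr hβ ha]
    congr 2
    exact E_congr hF hfr (ha.add hF (ok_rot hF c hβ)) (hβ.add hF ha) (by ring)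
      (by rw [zero_pow (q_ne_zero hF)]; ring)
  · refine Eq.trans ?_ (card_trace_zero hF)
    refine (Nat.card_congr (Equiv.ofBijective (fun β : {x : F // x + x ^ q = 0} =>
      (⟨⟨_, iota_mem_fixU hF hfr ((ok_zero_iff hF).2 β.2)⟩,
        Subtype.ext (hsq _ ((ok_zero_iff hF).2 β.2))⟩ : {z : fixU q u // z * z = 1}))
      ⟨?_, ?_⟩)).symm
    · intro β β' e
      exact Subtype.ext (E_inj hF hfr ((ok_zero_iff hF).2 β.2) ((ok_zero_iff hF).2 β'.2)
        (iota_injective (congrArg
          (fun x : {z : fixU q u // z * z = 1} => ((x.1 : fixU q u) : GU 3 F q)) e))).2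
    · rintro ⟨z, hz⟩
      obtain ⟨β, hβ, ez⟩ := hinv z hz
      exact ⟨⟨β, (ok_zero_iff hF).1 hβ⟩, Subtype.ext (Subtype.ext ez.symm)⟩

/-- Some involution of `PGU₃(q)` has a centraliser isomorphic to the stabiliser of a vector. -/
theorem exists_involution [CharP F 2] (hF : Fintype.card F = q ^ 2) (hfr : Frame q u w f) :
    ∃ y : GU 3 F q ⧸ Subgroup.center (GU 3 F q), orderOf y = 2 ∧
      Nonempty (fixU q u ≃* Subgroup.centralizer
        ({y} : Set (GU 3 F q ⧸ Subgroup.center (GU 3 F q)))) := by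
  have h1 : Ok q (0 : F) 1 := (ok_zero_iff hF).2 (by rw [one_pow, two_eq_zero])
  set E₀ := iota (eSU hF (h1.spec hfr)) with hE₀
  set π := QuotientGroup.mk' (Subgroup.center (GU 3 F q)) with hπ
  have hinj : ∀ g ∈ fixU q u, g ∈ Subgroup.center (GU 3 F q) → g = 1 := by
    intro g hg hz
    obtain ⟨l, -, hl⟩ := smul_of_mem_center hF hz
    have h2 : l • u = (1 : F) • u := by rw [one_smul, ← hl]; exact hg
    have h3 := smul_left_injective F (ne_zero_u hfr) h2
    exact gext fun x => by rw [hl, h3, one_smul, gap_one]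
  have hE₀ne : π E₀ ≠ 1 := by
    intro h0
    have h2 := hinj E₀ (iota_mem_fixU hF hfr h1)
      ((QuotientGroup.eq_one_iff _).1 h0)
    rw [hE₀, ← map_one iota, ← E_zero hF hfr] at h2
    exact one_ne_zero (E_inj hF hfr h1 (Ok.zero hF) (iota_injective h2)).2
  have hE₀sq : π E₀ * π E₀ = 1 := by
    rw [← map_mul, hE₀, ← map_mul, E_mul hF hfr h1 h1]
    rw [show eSU hF ((h1.add hF h1).spec hfr) = 1 from by
      rw [← E_zero hF hfr]
      exact E_congr hF hfr (h1.add hF h1) (Ok.zero hF) (add_zero 0)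
        (by rw [zero_mul, sub_zero, two_eq_zero])]
    rw [map_one, map_one]
  refine ⟨π E₀, orderOf_eq_prime (by rw [pow_two, hE₀sq]) hE₀ne, ?_⟩
  have hcomm : ∀ g ∈ fixU q u, g * E₀ = E₀ * g := by
    intro g hg
    obtain ⟨a, α, ha, c, rfl⟩ := exists_decomp_fixU hF hfr hg
    rw [hE₀, mul_assoc, rot_conj hF hfr c h1, ← mul_assoc, ← mul_assoc, ← map_mul, ← map_mul,
      E_mul hF hfr ha (ok_rot hF c h1), E_mul hF hfr h1 ha]
    congr 2
    exact E_congr hF hfr (ha.add hF (ok_rot hF c h1)) (h1.add hF ha) (by ring)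
      (by rw [zero_pow (q_ne_zero hF)]; ring)
  let φ : fixU q u →* Subgroup.centralizer
      ({π E₀} : Set (GU 3 F q ⧸ Subgroup.center (GU 3 F q))) :=
    (π.comp (fixU q u).subtype).codRestrict _ fun g =>
      Subgroup.mem_centralizer_singleton_iff.2 (by
        show π (g : GU 3 F q) * π E₀ = π E₀ * π (g : GU 3 F q)
        rw [← map_mul, ← map_mul, hcomm g g.2])
  refine ⟨MulEquiv.ofBijective φ ⟨?_, ?_⟩⟩
  · refine (injective_iff_map_eq_one φ).2 fun g hg => Subtype.ext ?_
    exact hinj g g.2 ((QuotientGroup.eq_one_iff _).1 (congrArg Subtype.val hg))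
  · rintro ⟨y, hy⟩
    obtain ⟨g, rfl⟩ := QuotientGroup.mk'_surjective _ y
    rw [Subgroup.mem_centralizer_singleton_iff, ← map_mul, ← map_mul] at hy
    obtain ⟨l, hl, hl'⟩ := smul_of_mem_center hF (QuotientGroup.eq.1 hy)
    have key : ∀ x, gap g (gap E₀ x) = l⁻¹ • gap E₀ (gap g x) := by
      intro x
      have hl0 : l ≠ 0 := fun h0 => by rw [h0, zero_mul] at hl; exact zero_ne_one hl
      have := congrArg (gap (g * E₀)) (hl' x)
      rw [← gap_mul, mul_inv_cancel_left, gap_smul, gap_mul, gap_mul] at this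
      rw [this, smul_smul, inv_mul_cancel₀ hl0, one_smul]
    have hE : ∀ x, gap E₀ x = x + hermForm 3 F q x u • u := by
      intro x
      rw [hE₀, gap_iota, ap_eSU, zero_smul, smul_zero, add_zero, herm_zero_right hF, zero_smul,
        sub_zero, one_mul]
    have ku : gap g u = l⁻¹ • (gap g u + hermForm 3 F q (gap g u) u • u) := by
      have := key u
      rwa [hE u, hfr.uu, zero_smul, add_zero, hE] at this
    have hgu0 : gap g u ≠ 0 := fun h0 => ne_zero_u hfr (gap_inj g (h0.trans (gap_zero g).symm))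
    have hl1 : l⁻¹ = 1 := by
      by_contra hne
      have h2 := congrArg (fun x => hermForm 3 F q x u) ku
      simp only [herm_smul_left, herm_add_left, hfr.uu, mul_zero, add_zero] at h2
      have h3 : hermForm 3 F q (gap g u) u = 0 := by
        by_contra h4
        exact hne ((mul_eq_right₀ h4).1 h2.symm)
      rw [h3, zero_smul, add_zero] at ku
      exact hne (smul_left_injective F hgu0 (ku.symm.trans (one_smul F _).symm))
    have kf := key f
    rw [hE f, hfr.fu, one_smul, gap_add, hE, hl1, one_smul, add_right_inj] at kf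
    set m := hermForm 3 F q (gap g f) u with hm
    have hm1 : m * m ^ q = 1 := by
      have h2 := herm_gap g f u
      rw [kf, herm_smul_right, ← hm, hfr.fu] at h2
      rwa [mul_comm] at h2
    have hm0 : m ≠ 0 := fun h0 => by rw [h0, zero_mul] at hm1; exact zero_ne_one hm1
    have hminv : m⁻¹ * m⁻¹ ^ q = 1 := by rw [inv_pow, ← mul_inv, hm1, inv_one]
    have hsc : scalar hF hminv ∈ Subgroup.center (GU 3 F q) :=
      mem_center_of_smul (l := m⁻¹) (gap_scalar hF hminv)
    refine ⟨⟨scalar hF hminv * g, ?_⟩, Subtype.ext ?_⟩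
    · rw [mem_fixU, gap_mul, gap_scalar, kf, smul_smul, inv_mul_cancel₀ hm0, one_smul]
    · show π (scalar hF hminv * g) = π g
      rw [map_mul, show π (scalar hF hminv) = 1 from (QuotientGroup.eq_one_iff _).2 hsc, one_mul]

theorem exists_two_pow [CharP F 2] (hF : Fintype.card F = q ^ 2) (hq : 2 < q) :
    ∃ n, 2 ≤ n ∧ q = 2 ^ n := by
  obtain ⟨k, -, hk⟩ := FiniteField.card F 2
  have hdvd : q ∣ 2 ^ (k : ℕ) := by rw [← hk, hF]; exact dvd_pow_self q two_ne_zero
  obtain ⟨n, -, rfl⟩ := (Nat.dvd_prime_pow Nat.prime_two).1 hdvd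
  refine ⟨n, ?_, rfl⟩
  by_contra h
  have : 2 ^ n ≤ 2 ^ 1 := Nat.pow_le_pow_right (by norm_num) (by omega)
  omega

end Cfsg.Agent.H91.PGUChar
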