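import Cfsg.Agent.H91.PGUChar.Cent
import Cfsg.Prelude.Def_Involutions
import Cfsg.Prelude.Def_CaseTheorems
import Cfsg.Agent.S0218
import Mathlib

/-!
# The points: cosets of the normaliser of an involution centraliser

If all involutions of `G` are conjugate, their centralisers have the shape of the one in `PGU₃(q)` and a
Sylow 2-subgroup is not normal, then this normaliser is strongly embedded and `G` is doubly transitive
on its cosets.
-/

set_option autoImplicit false
set_option linter.unusedSectionVars false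

namespace Cfsg.Agent.H91.PGUChar

open MulAction

universe u v

/-- The dichotomy for groups with a strongly embedded subgroup, as a hypothesis. -/
def DichotomyStmt : Prop :=
  ∀ (G : Type u) [Group G] [Finite G] (H : Subgroup G), Cfsg.IsStronglyEmbedded H →
    (∀ g₁ g₂ : G, g₁ ∉ H → g₂ ∉ H → ∃ h ∈ H, g₂⁻¹ * (h * g₁) ∈ H) ∨
      ((∀ S : Sylow 2 G, IsCyclic S ∨
          ∃ m : ℕ, 1 ≤ m ∧ Nonempty ((S : Subgroup G) ≃* QuaternionGroup (2 ^ m))) ∧
        Cfsg.oddCore G ⊔ H = ⊤)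

/-- What is known about the action. -/
structure Data (G : Type u) (Ω : Type v) [Group G] [MulAction G Ω] (n : ℕ) : Prop where
  two : IsMultiplyPretransitive G Ω 2
  faithful : FaithfulSMul G Ω
  one_lt : Nontrivial Ω
  hn : 2 ≤ n
  conj : ∀ z w : G, z ≠ 1 → z * z = 1 → w ≠ 1 → w * w = 1 → ∃ g : G, g * z * g⁻¹ = w
  shape : ∀ z : G, z ≠ 1 → z * z = 1 → CentShape (2 ^ n) (Subgroup.centralizer ({z} : Set G))
  fix_ex : ∀ z : G, z ≠ 1 → z * z = 1 → ∃ a : Ω, z • a = a
  fix_unique : ∀ z : G, z ≠ 1 → z * z = 1 → ∀ a b : Ω, z • a = a → z • b = b → a = b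
  same : ∀ z w : G, z ≠ 1 → z * z = 1 → w ≠ 1 → w * w = 1 → ∀ a : Ω, z • a = a → w • a = a →
    Subgroup.centralizer ({z} : Set G) = Subgroup.centralizer ({w} : Set G)
  card_fix : ∀ a : Ω, Nat.card {z : G // (z ≠ 1 ∧ z * z = 1) ∧ z • a = a} = 2 ^ n - 1
  card_stab : ∀ a : Ω, Nat.card (stabilizer G a) = (2 ^ n) ^ 3 * (2 ^ n + 1) * (2 ^ n - 1)

variable {G : Type u} [Group G] [Finite G]

theorem invol_of_orderOf {z : G} (hz : orderOf z = 2) : z ≠ 1 ∧ z * z = 1 :=
  ⟨fun h => by simp [h] at hz, by rw [← pow_two, ← hz, pow_orderOf_eq_one]⟩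

theorem orderOf_of_invol {z : G} (h1 : z ≠ 1) (h2 : z * z = 1) : orderOf z = 2 :=
  orderOf_eq_prime (by rw [pow_two, h2]) h1

section
variable {n : ℕ} (hn : 2 ≤ n)
  (hshape : ∀ z : G, z ≠ 1 → z * z = 1 → CentShape (2 ^ n) (Subgroup.centralizer ({z} : Set G)))

include hshape

omit [Finite G] in
/-- Commuting involutions have the same centraliser. -/
theorem centralizer_eq_of_commute {z w : G} (hz : z ≠ 1) (hz2 : z * z = 1) (hw : w ≠ 1)
    (hw2 : w * w = 1) (hc : z * w = w * z) :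
    Subgroup.centralizer ({z} : Set G) = Subgroup.centralizer ({w} : Set G) := by
  have key : ∀ {z w : G}, z ≠ 1 → z * z = 1 → w * w = 1 → z * w = w * z →
      Subgroup.centralizer ({z} : Set G) ≤ Subgroup.centralizer ({w} : Set G) := by
    intro z w hz hz2 hw2 hc c hcz
    rw [Subgroup.mem_centralizer_singleton_iff]
    have := (hshape z hz hz2).invol_central
      ⟨w, Subgroup.mem_centralizer_singleton_iff.2 hc.symm⟩ (Subtype.ext hw2) ⟨c, hcz⟩
    exact congrArg Subtype.val this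
  exact le_antisymm (key hz hz2 hw2 hc) (key hw hw2 hz2 hc.symm)

omit [Finite G] in
/-- An involution of a centraliser has the same centraliser. -/
theorem centralizer_eq_of_mem {z w : G} (hz : z ≠ 1) (hz2 : z * z = 1) (hw : w ≠ 1)
    (hw2 : w * w = 1) (h : w ∈ Subgroup.centralizer ({z} : Set G)) :
    Subgroup.centralizer ({w} : Set G) = Subgroup.centralizer ({z} : Set G) :=
  (centralizer_eq_of_commute hshape hz hz2 hw hw2
    (Subgroup.mem_centralizer_singleton_iff.1 h).symm).symm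

theorem card_invol_mem {x : G} (hx : x ≠ 1) (hx2 : x * x = 1) :
    Nat.card {z : G // (z ≠ 1 ∧ z * z = 1) ∧ z ∈ Subgroup.centralizer ({x} : Set G)} =
      2 ^ n - 1 := by
  have e : Set.ncard {z : Subgroup.centralizer ({x} : Set G) | z * z = 1} = 2 ^ n := by
    rw [← Nat.card_coe_set_eq]
    exact (hshape x hx hx2).card_sq
  have e2 := Set.ncard_sdiff_singleton_of_mem
    (s := {z : Subgroup.centralizer ({x} : Set G) | z * z = 1}) (a := 1) (one_mul 1)
  rw [e, ← Nat.card_coe_set_eq] at e2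
  rw [← e2]
  exact Nat.card_congr
    ⟨fun z => ⟨⟨z.1, z.2.2⟩, Subtype.ext z.2.1.2, fun h => z.2.1.1 (congrArg Subtype.val h)⟩,
      fun z => ⟨z.1.1, ⟨fun h => z.2.2 (Subtype.ext h), congrArg Subtype.val z.2.1⟩, z.1.2⟩,
      fun _ => rfl, fun _ => rfl⟩

include hn

/-- The involutions of the normaliser of a centraliser lie in the centraliser. -/
theorem invol_normalizer {x z : G} (hx : x ≠ 1) (hx2 : x * x = 1) (hz : z ≠ 1) (hz2 : z * z = 1)
    (h : z ∈ Subgroup.normalizer (Subgroup.centralizer ({x} : Set G) : Set G)) :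
    Subgroup.centralizer ({z} : Set G) = Subgroup.centralizer ({x} : Set G) := by
  classical
  set C := Subgroup.centralizer ({x} : Set G)
  have : Fact (Nat.Prime 2) := ⟨Nat.prime_two⟩
  let T := {w : G // (w ≠ 1 ∧ w * w = 1) ∧ w ∈ C}
  have hmap : ∀ w : T, ((z * w.1 * z⁻¹ ≠ 1) ∧ (z * w.1 * z⁻¹) * (z * w.1 * z⁻¹) = 1) ∧
      z * w.1 * z⁻¹ ∈ C := fun w => by
    refine ⟨⟨fun e => w.2.1.1 (conj_eq_one_iff.1 e), ?_⟩,
      (Subgroup.mem_normalizer_iff.1 h w.1).1 w.2.2⟩
    rw [show z * w.1 * z⁻¹ * (z * w.1 * z⁻¹) = z * (w.1 * w.1) * z⁻¹ by group, w.2.1.2]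
    group
  have hinv : ∀ g : G, z * (z * g * z⁻¹) * z⁻¹ = g := fun g => by
    have : z⁻¹ = z := inv_eq_of_mul_eq_one_right hz2
    rw [this, ← mul_assoc, ← mul_assoc, hz2, one_mul, mul_assoc, hz2, mul_one]
  let σ : Equiv.Perm T :=
    { toFun := fun w => ⟨_, hmap w⟩
      invFun := fun w => ⟨_, hmap w⟩
      left_inv := fun w => Subtype.ext (hinv w.1)
      right_inv := fun w => Subtype.ext (hinv w.1) }
  have := Fintype.ofFinite T
  obtain ⟨w, hw⟩ := Equiv.Perm.exists_fixed_point_of_prime (p := 2) (n := 1) (α := T) (σ := σ)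
    (by
      rw [← Nat.card_eq_fintype_card, card_invol_mem hshape hx hx2]
      intro hd
      have h4 : 2 ∣ 2 ^ n := dvd_pow_self 2 (by omega)
      have : 1 ≤ 2 ^ n := Nat.one_le_two_pow
      omega)
    (Equiv.ext fun w => Subtype.ext (hinv w.1))
  have hzw : z * w.1 = w.1 * z := mul_inv_eq_iff_eq_mul.1 (congrArg Subtype.val hw)
  rw [centralizer_eq_of_commute hshape hz hz2 w.2.1.1 w.2.1.2 hzw,
    centralizer_eq_of_mem hshape hx hx2 w.2.1.1 w.2.1.2 w.2.2]

/-- The data of the action on the cosets. -/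
theorem exists_data (hSE : DichotomyStmt.{u})
    (heven : Even (Nat.card G))
    (hconj : ∀ z w : G, z ≠ 1 → z * z = 1 → w ≠ 1 → w * w = 1 → ∃ g : G, g * z * g⁻¹ = w)
    (hS : ∀ P : Sylow 2 G, ¬ (P : Subgroup G).Normal) :
    ∃ H : Subgroup G, Data G (G ⧸ H) n := by
  classical
  have : Fact (Nat.Prime 2) := ⟨Nat.prime_two⟩
  obtain ⟨x, hxo⟩ := exists_prime_orderOf_dvd_card' (G := G) 2 (even_iff_two_dvd.1 heven)
  obtain ⟨hx, hx2⟩ := invol_of_orderOf hxo
  have hcx := hshape x hx hx2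
  set C := Subgroup.centralizer ({x} : Set G) with hC
  set H := Subgroup.normalizer (C : Set G) with hH
  have hCH : C ≤ H := Subgroup.le_normalizer
  obtain ⟨S₀, hS₀n, hS₀c, hS₀f⟩ := hcx.sylow
  set S : Subgroup G := S₀.map C.subtype with hSdef
  have hScard : Nat.card S = (2 ^ n) ^ 3 := by
    rw [hSdef, Subgroup.card_map_of_injective C.subtype_injective, hS₀c]
  have hpS : IsPGroup 2 S := IsPGroup.of_card (n := n * 3) (by rw [hScard, ← pow_mul])
  have hSmem : ∀ g : G, g ∈ C → (∃ k : ℕ, g ^ 2 ^ k = 1) → g ∈ S := by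
    rintro g hg ⟨k, hk⟩
    exact ⟨⟨g, hg⟩, hcx.two_le (by omega) hS₀c (k := k) (Subtype.ext hk), rfl⟩
  have hxS : x ∈ S := hSmem x (Subgroup.mem_centralizer_singleton_iff.2 rfl)
    ⟨1, by rw [pow_one, pow_two, hx2]⟩
  -- `S` is a Sylow 2-subgroup
  obtain ⟨P, hSP⟩ := hpS.exists_le_sylow
  have hPS : (P : Subgroup G) = S := by
    have : Nontrivial (P : Subgroup G) := ⟨⟨⟨x, hSP hxS⟩, 1, fun e => hx (congrArg Subtype.val e)⟩⟩
    have := P.2.center_nontrivial
    obtain ⟨k, hk0, hk⟩ := IsPGroup.nontrivial_iff_card (P.2.to_subgroup (Subgroup.center _)) |>.1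
      inferInstance
    obtain ⟨w, hw⟩ := exists_prime_orderOf_dvd_card' (G := Subgroup.center (P : Subgroup G)) 2
      (by rw [hk]; exact dvd_pow_self 2 (by omega))
    obtain ⟨hw1, hw2⟩ := invol_of_orderOf (z := ((w : (P : Subgroup G)) : G))
      (by rw [Subgroup.orderOf_coe, Subgroup.orderOf_coe, hw])
    have hPw : ∀ g ∈ (P : Subgroup G),
        g ∈ Subgroup.centralizer ({((w : (P : Subgroup G)) : G)} : Set G) := fun g hg =>
      Subgroup.mem_centralizer_singleton_iff.2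
        (congrArg Subtype.val (Subgroup.mem_center_iff.1 w.2 ⟨g, hg⟩))
    have he := centralizer_eq_of_mem hshape hw1 hw2 hx hx2 (hPw x (hSP hxS))
    refine le_antisymm (fun g hg => ?_) hSP
    obtain ⟨k, hk⟩ := P.2 ⟨g, hg⟩
    exact hSmem g (hC ▸ he ▸ hPw g hg) ⟨k, congrArg Subtype.val hk⟩
  have hHtop : H ≠ ⊤ := by
    intro htop
    refine hS P ⟨fun s hs g => ?_⟩
    rw [hPS] at hs ⊢
    obtain ⟨s, hs0, rfl⟩ := Subgroup.mem_map.1 hs
    obtain ⟨k, hk⟩ := (IsPGroup.of_card (p := 2) (n := n * 3)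
      (by rw [hS₀c, ← pow_mul] : Nat.card S₀ = 2 ^ (n * 3))) ⟨s, hs0⟩
    have hgC : g * (s : G) * g⁻¹ ∈ C :=
      (Subgroup.mem_normalizer_iff.1 (htop ▸ Subgroup.mem_top g : g ∈ H) (s : G)).1 s.2
    refine hSmem _ hgC ⟨k, ?_⟩
    show (g * (s : G) * g⁻¹) ^ 2 ^ k = 1
    rw [conj_pow, show (s : G) ^ 2 ^ k = 1 from congrArg (fun z : S₀ => ((z : C) : G)) hk, mul_one,
      mul_inv_cancel]
  have hHinv : ∀ z : G, z ≠ 1 → z * z = 1 →
      (z ∈ H ↔ Subgroup.centralizer ({z} : Set G) = C) := fun z hz hz2 =>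
    ⟨fun h => invol_normalizer hn hshape hx hx2 hz hz2 h, fun h => hCH (by
      rw [← h]; exact Subgroup.mem_centralizer_singleton_iff.2 rfl)⟩
  have hmemconj : ∀ (g z c : G),
      c ∈ Subgroup.centralizer ({z} : Set G) ↔
        g⁻¹ * c * g ∈ Subgroup.centralizer ({g⁻¹ * z * g} : Set G) := by
    intro g z c
    rw [Subgroup.mem_centralizer_singleton_iff, Subgroup.mem_centralizer_singleton_iff,
      show g⁻¹ * c * g * (g⁻¹ * z * g) = g⁻¹ * (c * z) * g by group,
      show g⁻¹ * z * g * (g⁻¹ * c * g) = g⁻¹ * (z * c) * g by group]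
    simp
  have hconjI : ∀ (g : G) {z : G}, z ≠ 1 → z * z = 1 →
      g⁻¹ * z * g ≠ 1 ∧ (g⁻¹ * z * g) * (g⁻¹ * z * g) = 1 := by
    intro g z hz hz2
    refine ⟨fun e => hz ?_, ?_⟩
    · have := congrArg (fun y => g * y * g⁻¹) e
      simpa [mul_assoc] using this
    · rw [show g⁻¹ * z * g * (g⁻¹ * z * g) = g⁻¹ * (z * z) * g by group, hz2]
      group
  have hfix : ∀ (g : G) {z : G}, z ≠ 1 → z * z = 1 →
      (z • (g : G ⧸ H) = (g : G ⧸ H) ↔
        ∀ c, c ∈ Subgroup.centralizer ({z} : Set G) ↔ g⁻¹ * c * g ∈ C) := by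
    intro g z hz hz2
    obtain ⟨h1, h2⟩ := hconjI g hz hz2
    rw [MulAction.Quotient.smul_coe, smul_eq_mul, eq_comm, QuotientGroup.eq, ← mul_assoc,
      hHinv _ h1 h2]
    constructor
    · intro e c
      rw [hmemconj g z c, e]
    · intro e
      ext c
      have := e (g * c * g⁻¹)
      rw [hmemconj g z, show g⁻¹ * (g * c * g⁻¹) * g = c by group] at this
      exact this
  have hse : Cfsg.IsStronglyEmbedded H := by
    refine ⟨hHtop, ?_, fun g hg => ?_⟩
    · rw [even_iff_two_dvd]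
      calc 2 = orderOf x := hxo.symm
        _ ∣ Nat.card H := H.orderOf_dvd_natCard (hCH (Subgroup.mem_centralizer_singleton_iff.2 rfl))
    · by_contra hev
      rw [Nat.not_odd_iff_even, even_iff_two_dvd] at hev
      obtain ⟨z', hzo⟩ := exists_prime_orderOf_dvd_card' 2 hev
      obtain ⟨hz1, hz2⟩ := invol_of_orderOf (z := (z' : G)) (by
        rw [Subgroup.orderOf_coe, hzo])
      obtain ⟨z, hz, hz'⟩ := z'
      obtain ⟨y, hy, rfl⟩ := Subgroup.mem_map.1 hz'
      simp only [MulEquiv.coe_toMonoidHom, MulAut.conj_apply] at hz hz1 hz2 ⊢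
      have e1 := (hHinv _ hz1 hz2).1 hz
      obtain ⟨h1, h2⟩ := hconjI g hz1 hz2
      have hy' : g⁻¹ * (g * y * g⁻¹) * g = y := by group
      have e2 : Subgroup.centralizer ({g⁻¹ * (g * y * g⁻¹) * g} : Set G) = C :=
        (hHinv _ h1 h2).1 (hy'.symm ▸ hy)
      refine hg ((Subgroup.inv_mem_iff _).1 (Subgroup.mem_normalizer_iff.2 fun c => ?_))
      rw [inv_inv]
      conv_lhs => rw [← e1, hmemconj g, e2]
  have hfix_ex : ∀ z : G, z ≠ 1 → z * z = 1 → ∃ a : G ⧸ H, z • a = a := by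
    intro z hz hz2
    obtain ⟨g, hg⟩ := hconj x z hx hx2 hz hz2
    refine ⟨(g : G ⧸ H), (hfix g hz hz2).2 fun c => ?_⟩
    rw [hmemconj g z c, show g⁻¹ * z * g = x by rw [← hg]; group]
  have hfix_unique : ∀ z : G, z ≠ 1 → z * z = 1 → ∀ a b : G ⧸ H, z • a = a → z • b = b → a = b := by
    intro z hz hz2 a b
    induction a using QuotientGroup.induction_on with | _ g => ?_
    induction b using QuotientGroup.induction_on with | _ k => ?_
    intro ha hb
    rw [QuotientGroup.eq]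
    refine Subgroup.mem_normalizer_iff.2 fun c => ?_
    have h1 := (hfix g hz hz2).1 ha (k * c * k⁻¹)
    have h2 := (hfix k hz hz2).1 hb (k * c * k⁻¹)
    rw [show k⁻¹ * (k * c * k⁻¹) * k = c by group] at h2
    rw [show g⁻¹ * (k * c * k⁻¹) * g = g⁻¹ * k * c * (g⁻¹ * k)⁻¹ by group] at h1
    exact h2.symm.trans h1
  have hcardH : Nat.card H = (2 ^ n) ^ 3 * (2 ^ n + 1) * (2 ^ n - 1) := by
    let T := {w : G // (w ≠ 1 ∧ w * w = 1) ∧ w ∈ C}
    let φ : H → T := fun h => ⟨(h : G) * x * (h : G)⁻¹,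
      ⟨fun e => hx (conj_eq_one_iff.1 e), by
        rw [show (h : G) * x * (h : G)⁻¹ * ((h : G) * x * (h : G)⁻¹) = (h : G) * (x * x) * (h : G)⁻¹
          by group, hx2, mul_one, mul_inv_cancel]⟩,
      (Subgroup.mem_normalizer_iff.1 h.2 x).1 (Subgroup.mem_centralizer_singleton_iff.2 rfl)⟩
    have hsurj : ∀ t : T, ∃ h : H, φ h = t := by
      intro t
      obtain ⟨g, hg⟩ := hconj x t.1 hx hx2 t.2.1.1 t.2.1.2
      have hgH : g ∈ H := by
        refine Subgroup.mem_normalizer_iff.2 fun c => ?_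
        have e := hmemconj g t.1 (g * c * g⁻¹)
        rw [centralizer_eq_of_mem hshape hx hx2 t.2.1.1 t.2.1.2 t.2.2,
          show g⁻¹ * (g * c * g⁻¹) * g = c by group,
          show g⁻¹ * t.1 * g = x by rw [← hg]; group] at e
        exact e.symm
      exact ⟨⟨g, hgH⟩, Subtype.ext hg⟩
    have hk : ∀ t : T, Nat.card {h : H // φ h = t} = Nat.card C := by
      intro t
      obtain ⟨h₀, hh₀⟩ := hsurj t
      refine Nat.card_congr
        ⟨fun h => ⟨(h₀ : G)⁻¹ * (h.1 : G), ?_⟩,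
          fun c => ⟨⟨(h₀ : G) * c.1, mul_mem h₀.2 (hCH c.2)⟩, ?_⟩, ?_, ?_⟩
      · rw [hC, Subgroup.mem_centralizer_singleton_iff]
        have e : (h.1 : G) * x * (h.1 : G)⁻¹ = (h₀ : G) * x * (h₀ : G)⁻¹ :=
          congrArg Subtype.val (h.2.trans hh₀.symm)
        have e2 := congrArg (fun y => (h₀ : G)⁻¹ * y * (h.1 : G)) e
        simpa [mul_assoc] using e2
      · refine (Subtype.ext ?_).trans hh₀
        show (h₀ : G) * c.1 * x * ((h₀ : G) * c.1)⁻¹ = (h₀ : G) * x * (h₀ : G)⁻¹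
        rw [mul_assoc (h₀ : G) c.1 x, Subgroup.mem_centralizer_singleton_iff.1 c.2]
        group
      · rintro ⟨⟨h, hh⟩, h'⟩
        exact Subtype.ext (Subtype.ext (mul_inv_cancel_left _ _))
      · rintro ⟨c, hc⟩
        exact Subtype.ext (inv_mul_cancel_left _ _)
    have := Fintype.ofFinite T
    rw [← Nat.card_congr (Equiv.sigmaFiberEquiv φ), Nat.card_sigma, Finset.sum_congr rfl
      (fun t _ => hk t), Finset.sum_const, Finset.card_univ, ← Nat.card_eq_fintype_card,
      card_invol_mem hshape hx hx2, hcx.card, smul_eq_mul]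
    ring
  have hpre : IsPretransitive G (G ⧸ H) := inferInstance
  have htwo : IsMultiplyPretransitive G (G ⧸ H) 2 := by
    rcases hSE G H hse with h | ⟨hcyc, -⟩
    · rw [is_two_pretransitive_iff]
      intro a b c d hab hcd
      obtain ⟨g, hg⟩ := exists_smul_eq G a ((1 : G) : G ⧸ H)
      obtain ⟨k, hk⟩ := exists_smul_eq G c ((1 : G) : G ⧸ H)
      obtain ⟨g₁, hg₁⟩ := QuotientGroup.mk_surjective (g • b)
      obtain ⟨g₂, hg₂⟩ := QuotientGroup.mk_surjective (k • d)
      have hne : ∀ {y : G} {p r : G ⧸ H} {e : G}, e • p = ((1 : G) : G ⧸ H) → p ≠ r →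
          (y : G ⧸ H) = e • r → y ∉ H := by
        intro y p r e he hpr hy hy'
        refine hpr (MulAction.injective e ?_)
        show e • p = e • r
        rw [he, ← hy, eq_comm, QuotientGroup.eq, mul_one]
        exact inv_mem hy'
      obtain ⟨h, hhH, hh⟩ := h g₁ g₂ (hne hg hab hg₁) (hne hk hcd hg₂)
      refine ⟨k⁻¹ * h * g, ?_, ?_⟩
      · rw [mul_smul, mul_smul, hg, inv_smul_eq_iff, hk, MulAction.Quotient.smul_coe, smul_eq_mul,
          mul_one, QuotientGroup.eq, mul_one]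
        exact inv_mem hhH
      · rw [mul_smul, mul_smul, inv_smul_eq_iff, ← hg₁, ← hg₂, MulAction.Quotient.smul_coe,
          smul_eq_mul, eq_comm, QuotientGroup.eq]
        exact hh
    · exfalso
      have h4 : 2 ≤ Nat.card {z : G // (z ≠ 1 ∧ z * z = 1) ∧ z ∈ C} := by
        rw [card_invol_mem hshape hx hx2]
        have : 2 ^ 2 ≤ 2 ^ n := Nat.pow_le_pow_right (by norm_num) hn
        omega
      have hz : ∀ z : {z : G // (z ≠ 1 ∧ z * z = 1) ∧ z ∈ C}, (z : G) ∈ (P : Subgroup G) :=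
        fun z => hPS ▸ hSmem z.1 z.2.2 ⟨1, by rw [pow_one, pow_two, z.2.1.2]⟩
      have hle : Nat.card {z : G // (z ≠ 1 ∧ z * z = 1) ∧ z ∈ C} ≤
          Nat.card {w : (P : Subgroup G) // orderOf w = 2} :=
        Nat.card_le_card_of_injective (fun z => ⟨⟨z.1, hz z⟩, by
          rw [Subgroup.orderOf_mk]; exact orderOf_of_invol z.2.1.1 z.2.1.2⟩) fun z z' e =>
          Subtype.ext (congrArg (fun w : {w : (P : Subgroup G) // orderOf w = 2} =>
            ((w.1 : (P : Subgroup G)) : G)) e)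
      have hone : Nat.card {w : (P : Subgroup G) // orderOf w = 2} ≤ 1 := by
        rcases hcyc P with hc | ⟨m, hm, ⟨e⟩⟩
        · have := Fintype.ofFinite (P : Subgroup G)
          rw [Nat.card_eq_fintype_card, Fintype.card_subtype]
          rcases Nat.eq_zero_or_pos (Finset.univ.filter
              fun w : (P : Subgroup G) => orderOf w = 2).card with h0 | h0
          · omega
          · obtain ⟨w, hw⟩ := Finset.card_pos.1 h0
            have hd : 2 ∣ Fintype.card (P : Subgroup G) :=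
              (dvd_of_eq (Finset.mem_filter.1 hw).2.symm).trans orderOf_dvd_card
            rw [IsCyclic.card_orderOf_eq_totient hd]
            rfl
        · obtain ⟨k, rfl⟩ : ∃ k, m = k + 1 := ⟨m - 1, by omega⟩
          rw [Nat.card_congr (e.toEquiv.subtypeEquiv
            (q := fun w => orderOf w = 2) fun w => by
              show orderOf w = 2 ↔ orderOf (e w) = 2
              rw [e.orderOf_eq]), S0218.result]
      omega
  refine ⟨H, ⟨htwo, ?_, ?_, hn, hconj, hshape, hfix_ex, hfix_unique, ?_, ?_, ?_⟩⟩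
  · -- faithfulness
    refine ⟨fun {g g'} h => ?_⟩
    suffices hk : ∀ k : G, (∀ a : G ⧸ H, k • a = a) → k = 1 by
      exact (inv_mul_eq_one.1 (hk (g'⁻¹ * g) fun a => by rw [mul_smul, h a, inv_smul_smul])).symm
    intro k hk
    set K := (toPermHom G (G ⧸ H)).ker
    have hKmem : ∀ {y : G}, y ∈ K ↔ ∀ a : G ⧸ H, y • a = a := fun {y} =>
      ⟨fun hy a => Equiv.ext_iff.1 hy a, fun hy => Equiv.ext hy⟩
    have hKinv : ∀ y ∈ K, y * y = 1 → y = 1 := by
      intro y hy hy2
      by_contra hy1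
      obtain ⟨g, hg⟩ := (not_forall.1 fun hall => hHtop (eq_top_iff.2 fun g _ => hall g))
      have := hfix_unique y hy1 hy2 (g : G ⧸ H) ((1 : G) : G ⧸ H) (hKmem.1 hy _) (hKmem.1 hy _)
      rw [QuotientGroup.eq, mul_one] at this
      exact hg ((Subgroup.inv_mem_iff _).1 this)
    have hKodd : Odd (Nat.card K) := by
      rw [← Nat.not_even_iff_odd, even_iff_two_dvd]
      intro hev
      obtain ⟨y, hy⟩ := exists_prime_orderOf_dvd_card' 2 hev
      obtain ⟨h1, h2⟩ := invol_of_orderOf (z := (y : G)) (by rw [Subgroup.orderOf_coe, hy])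
      exact h1 (hKinv y y.2 h2)
    have hkK : k ∈ K := hKmem.2 hk
    have hkH : k ∈ H := by
      have h1 := hk ((1 : G) : G ⧸ H)
      rw [MulAction.Quotient.smul_coe, smul_eq_mul, mul_one, eq_comm, QuotientGroup.eq, inv_one,
        one_mul] at h1
      exact h1
    have hcomm : ∀ s ∈ S, k * s = s * k := by
      intro s hs
      set e := k * s * k⁻¹ * s⁻¹ with he
      have he1 : e ∈ K := by
        rw [he, show k * s * k⁻¹ * s⁻¹ = k * (s * k⁻¹ * s⁻¹) by group]
        exact mul_mem hkK ((inferInstance : K.Normal).conj_mem _ (inv_mem hkK) s)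
      have he2 : e ∈ S := by
        rw [he]
        refine mul_mem (hSmem _ ?_ ?_) (inv_mem hs)
        · exact (Subgroup.mem_normalizer_iff.1 hkH s).1 (Subgroup.map_subtype_le S₀ hs)
        · obtain ⟨j, hj⟩ := hpS ⟨s, hs⟩
          exact ⟨j, by rw [conj_pow, show s ^ 2 ^ j = 1 from congrArg Subtype.val hj, mul_one,
            mul_inv_cancel]⟩
      have h1 : orderOf e ∣ (2 ^ n) ^ 3 := hScard ▸ S.orderOf_dvd_natCard he2
      have h2 : orderOf e ∣ Nat.card K := K.orderOf_dvd_natCard he1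
      have h3 : e = 1 := orderOf_eq_one_iff.1 (Nat.eq_one_of_dvd_coprimes
        ((Nat.Coprime.pow_left _ (Nat.coprime_two_left.2 hKodd)).pow_left _) h1 h2)
      rw [he, mul_inv_eq_one, mul_inv_eq_iff_eq_mul] at h3
      exact h3
    have hkC : k ∈ C := Subgroup.mem_centralizer_singleton_iff.2 (hcomm x hxS)
    by_contra hk1
    have hodd : Odd (orderOf (⟨k, hkC⟩ : C)) := by
      rw [Subgroup.orderOf_mk]
      exact hKodd.of_dvd_nat (K.orderOf_dvd_natCard hkK)
    have hall : ∀ s ∈ S₀, s * s = 1 := fun s hs =>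
      hS₀f ⟨k, hkC⟩ hodd (fun e => hk1 (congrArg Subtype.val e)) s hs
        (Subtype.ext (hcomm _ (Subgroup.mem_map_of_mem _ hs)))
    have h1 : Nat.card S₀ ≤ 2 ^ n :=
      hcx.card_sq ▸ Nat.card_le_card_of_injective
        (fun s : S₀ => (⟨s.1, hall s.1 s.2⟩ : {z : C // z * z = 1})) fun s s' e =>
          Subtype.ext (congrArg (fun z : {z : C // z * z = 1} => z.1) e)
    rw [hS₀c] at h1
    have : 2 ^ n < (2 ^ n) ^ 3 := by
      rw [← pow_mul]
      exact Nat.pow_lt_pow_right (by norm_num) (by omega)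
    omega
  · obtain ⟨g, hg⟩ := (not_forall.1 fun hall => hHtop (eq_top_iff.2 fun g _ => hall g))
    exact ⟨⟨(g : G ⧸ H), ((1 : G) : G ⧸ H), fun e => hg (by
      rw [QuotientGroup.eq, mul_one] at e
      exact (Subgroup.inv_mem_iff _).1 e)⟩⟩
  · intro z w hz hz2 hw hw2 a
    induction a using QuotientGroup.induction_on with | _ g => ?_
    intro hza hwa
    ext c
    exact ((hfix g hz hz2).1 hza c).trans ((hfix g hw hw2).1 hwa c).symm
  · intro a
    induction a using QuotientGroup.induction_on with | _ g => ?_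
    rw [← card_invol_mem hshape hx hx2]
    refine Nat.card_congr (((MulAut.conj g⁻¹).toEquiv).subtypeEquiv fun z => ?_)
    show _ ↔ (g⁻¹ * z * g⁻¹⁻¹ ≠ 1 ∧ g⁻¹ * z * g⁻¹⁻¹ * (g⁻¹ * z * g⁻¹⁻¹) = 1) ∧
      g⁻¹ * z * g⁻¹⁻¹ ∈ C
    rw [inv_inv]
    constructor
    · rintro ⟨⟨hz, hz2⟩, hza⟩
      exact ⟨hconjI g hz hz2,
        ((hfix g hz hz2).1 hza z).1 (Subgroup.mem_centralizer_singleton_iff.2 rfl)⟩
    · rintro ⟨⟨h1, h2⟩, h3⟩
      have hz : z ≠ 1 := fun e => h1 (by rw [e]; group)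
      have hz2 : z * z = 1 := by
        have := congrArg (fun y => g * y * g⁻¹) h2
        simpa [mul_assoc] using this
      refine ⟨⟨hz, hz2⟩, (hfix g hz hz2).2 fun c => ?_⟩
      rw [hmemconj g z c, centralizer_eq_of_mem hshape hx hx2 h1 h2 h3]
  · intro a
    induction a using QuotientGroup.induction_on with | _ g => ?_
    rw [← hcardH]
    refine Nat.card_congr (((MulAut.conj g⁻¹).toEquiv).subtypeEquiv fun y => ?_)
    show y • (g : G ⧸ H) = (g : G ⧸ H) ↔ g⁻¹ * y * g⁻¹⁻¹ ∈ H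
    rw [inv_inv, MulAction.Quotient.smul_coe, smul_eq_mul, eq_comm, QuotientGroup.eq, ← mul_assoc]

end

end Cfsg.Agent.H91.PGUChar
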