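import Cfsg.Agent.H91.PGUChar.Rotation
import Cfsg.Agent.H91.PGUChar.Dichotomy
import Cfsg.Agent.H53.SUInvol

/-!
# Recognition of `PGU₃(q)` from the normal subgroup `PSU₃(q)`

The points are identified with the isotropic points, and the elements fixing two points and
centralising the involutions fixing one of them become the rotations.
-/

set_option autoImplicit false
set_option linter.unusedSectionVars false
set_option linter.style.haveILetI false

namespace Cfsg.Agent.H91.PGUChar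

open Cfsg MulAction Cfsg.Agent.Unitary Cfsg.Agent.H52.SUThree Cfsg.Agent.H72.PSUThree
open Cfsg.Agent.H99.RankOne
open Matrix hiding vec

variable {F : Type*} [Field F] [Fintype F]

/-- An identification of the points with the isotropic points. -/
theorem exists_points {G Ω : Type*} [Group G] [Finite G] [MulAction G Ω] {n : ℕ} [CharP F 2]
    (h : Data G Ω n) (hF : Fintype.card F = (2 ^ n) ^ 2) (hN : Nat.card Ω = (2 ^ n) ^ 3 + 1)
    {u w f : Fin 3 → F} (hfr : Frame (2 ^ n) u w f)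
    {L : Subgroup G} (hLn : L.Normal)
    (e : L ≃* ↥((⊤ : Subgroup (SU 3 F (2 ^ n))).map (suPerm (2 ^ n) F))) :
    ∃ Φ : IsoPoint 3 F (2 ^ n) ≃ Ω, ∀ (l : L) (p : IsoPoint 3 F (2 ^ n)),
      Φ ((e l : Equiv.Perm (IsoPoint 3 F (2 ^ n))) p) = (l : G) • Φ p := by
  classical
  haveI : Fact (Nat.Prime 2) := ⟨Nat.prime_two⟩
  haveI := h.finite
  haveI := h.pretrans
  haveI := h.faithful
  haveI := h.one_lt
  haveI := h.two
  let Λ : Subgroup (Equiv.Perm (IsoPoint 3 F (2 ^ n))) :=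
    (⊤ : Subgroup (SU 3 F (2 ^ n))).map (suPerm (2 ^ n) F)
  -- the preimage of the unipotent group
  let U0 : Subgroup Λ := ((uni u).map (suPerm (2 ^ n) F)).subgroupOf Λ
  set P0 : Subgroup G := U0.map (L.subtype.comp e.symm.toMonoidHom) with hP0
  have hUle : (uni u).map (suPerm (2 ^ n) F) ≤ Λ := Subgroup.map_mono le_top
  have hσinj : Function.Injective ((suPerm (2 ^ n) F).comp (uni u).subtype) := by
    rintro ⟨g, hg⟩ ⟨g', hg'⟩ e'
    obtain ⟨b, β, hb, rfl⟩ := (mem_uni_iff hF hfr).1 hg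
    obtain ⟨b', β', hb', rfl⟩ := (mem_uni_iff hF hfr).1 hg'
    obtain ⟨rfl, rfl⟩ := pE_inj hF hfr hb hb' e'
    rfl
  have hP0card : Nat.card P0 = (2 ^ n) ^ 3 := by
    rw [hP0, Subgroup.card_map_of_injective (by exact L.subtype_injective.comp e.symm.injective),
      Nat.card_congr (Subgroup.subgroupOfEquivOfLe hUle).toEquiv,
      show (uni u).map (suPerm (2 ^ n) F) = ((suPerm (2 ^ n) F).comp (uni u).subtype).range by
        rw [MonoidHom.range_comp, Subgroup.range_subtype],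
      ← Nat.card_congr (MonoidHom.ofInjective hσinj).toEquiv, ← card_ok hF]
    refine (Nat.card_congr (Equiv.ofBijective
      (fun p : {p : F × F // Ok (2 ^ n) p.1 p.2} =>
        (⟨_, E_mem_uni hF hfr p.2⟩ : (uni u : Subgroup (SU 3 F (2 ^ n))))) ⟨?_, ?_⟩)).symm
    · intro p p' e'
      obtain ⟨h1, h2⟩ := E_inj hF hfr p.2 p'.2 (congrArg Subtype.val e')
      exact Subtype.ext (Prod.ext h1 h2)
    · rintro ⟨g, hg⟩
      obtain ⟨b, β, hb, rfl⟩ := (mem_uni_iff hF hfr).1 hg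
      exact ⟨⟨(b, β), hb⟩, rfl⟩
  have hp2 : IsPGroup 2 P0 := IsPGroup.of_card (n := n * 3) (by rw [hP0card, ← pow_mul])
  obtain ⟨a₀, ha₀⟩ := hp2.nonempty_fixed_point_of_prime_not_dvd_card Ω (by
    rw [hN, Nat.two_dvd_ne_zero, ← Nat.odd_iff]
    exact (Nat.even_pow.2 ⟨h.two_pow_facts.2.1, by norm_num⟩).add_one)
  rw [mem_fixedPoints] at ha₀
  -- an involution of it
  have h1 : Ok (2 ^ n) (0 : F) 1 :=
    (ok_zero_iff hF).2 (by rw [one_pow]; exact CharTwo.add_self_eq_zero 1)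
  let z₀ : Λ := ⟨pE hF hfr h1, Subgroup.mem_map_of_mem _ (Subgroup.mem_top _)⟩
  have hz₀1 : z₀ ≠ 1 := fun e0 => by
    have e1 : pE hF hfr h1 = 1 := congrArg Subtype.val e0
    have e2 := pE_inj hF hfr h1 (Ok.zero hF) (by
      rw [e1]
      show (1 : Equiv.Perm (IsoPoint 3 F (2 ^ n))) = suPerm (2 ^ n) F _
      rw [E_zero hF hfr, map_one])
    exact one_ne_zero e2.2
  have hz₀2 : z₀ * z₀ = 1 := Subtype.ext (by
    show pE hF hfr h1 * pE hF hfr h1 = 1
    rw [pE_mul hF hfr h1 h1, pE_congr hF hfr (h1.add hF h1) (Ok.zero hF) (add_zero 0)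
      (by rw [zero_mul, sub_zero]; exact CharTwo.add_self_eq_zero 1)]
    show suPerm (2 ^ n) F _ = 1
    rw [E_zero hF hfr, map_one])
  set zG : G := ((e.symm z₀ : L) : G) with hzG
  have hzG1 : zG ≠ 1 := fun e0 => hz₀1 (by
    have : e.symm z₀ = 1 := Subtype.ext e0
    rw [← e.apply_symm_apply z₀, this, map_one])
  have hzG2 : zG * zG = 1 := by
    rw [hzG, ← Subgroup.coe_mul, ← map_mul, hz₀2, map_one, Subgroup.coe_one]
  have hzmem : ∀ (x : Λ), x ∈ U0 → ((e.symm x : L) : G) • a₀ = a₀ := fun x hx =>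
    ha₀ ⟨_, Subgroup.mem_map.2 ⟨x, hx, rfl⟩⟩
  have hzfix : zG • a₀ = a₀ :=
    hzmem z₀ (Subgroup.mem_subgroupOf.2 (Subgroup.mem_map_of_mem _ (E_mem_uni hF hfr h1)))
  -- the stabiliser of the base point
  have hst : ∀ l : L, (e l : Equiv.Perm (IsoPoint 3 F (2 ^ n))) (pu hfr) = pu hfr →
      (l : G) • a₀ = a₀ := by
    intro l hl
    obtain ⟨s, -, hs⟩ := Subgroup.mem_map.1 (e l).2
    have hsp : s • pu hfr = pu hfr := by rw [← hs] at hl; exact hl
    have hmem : s⁻¹ * eSU hF (h1.spec hfr) * s ∈ uni u := by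
      obtain ⟨m, -, hm⟩ := (smul_pu_iff hfr).1 hsp
      rw [H72.PSUThree.mem_uni, ap_mul, ap_mul, hm, ap_smul, ap_E_u hF hfr h1, ← hm, ap_inv_ap]
    have key : (l : G)⁻¹ * zG * (l : G) = ((e.symm ((e l)⁻¹ * z₀ * e l) : L) : G) := by
      rw [map_mul, map_mul, map_inv, e.symm_apply_apply]
      rfl
    have hin : (e l)⁻¹ * z₀ * e l ∈ U0 := by
      refine Subgroup.mem_subgroupOf.2 ⟨_, hmem, ?_⟩
      rw [map_mul, map_mul, map_inv, hs]
      rfl
    refine h.fix_unique zG hzG1 hzG2 _ _ ?_ hzfix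
    have h3 := hzmem _ hin
    rw [← key, mul_smul, mul_smul, inv_smul_eq_iff] at h3
    exact h3
  -- transitivity of `L`
  have hLtrans : ∀ c : Ω, ∃ l : L, (l : G) • a₀ = c := by
    intro c
    rcases eq_or_ne c a₀ with rfl | hc
    · exact ⟨1, one_smul _ _⟩
    obtain ⟨l, hl⟩ : ∃ l : L, (l : G) • a₀ ≠ a₀ := by
      by_contra hall
      push Not at hall
      refine hzG1 (FaithfulSMul.eq_of_smul_eq_smul (α := Ω) fun y => ?_)
      rw [one_smul]
      obtain ⟨g, rfl⟩ := exists_smul_eq G a₀ y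
      rw [← inv_smul_eq_iff, smul_smul, smul_smul]
      have := hall ⟨g⁻¹ * zG * g, by
        have := hLn.conj_mem zG (e.symm z₀).2 g⁻¹
        rwa [inv_inv] at this⟩
      simpa [mul_assoc] using this
    obtain ⟨g, hg1, hg2⟩ := is_two_pretransitive_iff.1 h.two hl.symm hc.symm
    refine ⟨⟨g * l * g⁻¹, hLn.conj_mem _ l.2 g⟩, ?_⟩
    show (g * (l : G) * g⁻¹) • a₀ = c
    rw [mul_smul, mul_smul, inv_smul_eq_iff.2 hg1.symm, hg2]
  have hptrans : ∀ p : IsoPoint 3 F (2 ^ n),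
      ∃ l : L, (e l : Equiv.Perm (IsoPoint 3 F (2 ^ n))) (pu hfr) = p := by
    intro p
    obtain ⟨s, hs⟩ := exists_smul_isoPt hF le_rfl (pu hfr) p
    refine ⟨e.symm ⟨_, Subgroup.mem_map_of_mem _ (Subgroup.mem_top s)⟩, ?_⟩
    rw [e.apply_symm_apply]
    exact hs
  choose g hg using hptrans
  have hwd : ∀ (l : L) (p : IsoPoint 3 F (2 ^ n)),
      (e l : Equiv.Perm (IsoPoint 3 F (2 ^ n))) (pu hfr) = p → (g p : G) • a₀ = (l : G) • a₀ := by
    intro l p hl
    have := hst (l⁻¹ * g p) (by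
      rw [map_mul, map_inv, Subgroup.coe_mul, Subgroup.coe_inv, Equiv.Perm.mul_apply, hg,
        Equiv.Perm.inv_eq_iff_eq, hl])
    rw [Subgroup.coe_mul, Subgroup.coe_inv, mul_smul, inv_smul_eq_iff] at this
    exact this
  haveI : Finite (IsoPoint 3 F (2 ^ n)) := inferInstance
  let φ : IsoPoint 3 F (2 ^ n) → Ω := fun p => (g p : G) • a₀
  have hsurj : Function.Surjective φ := fun c => by
    obtain ⟨l, hl⟩ := hLtrans c
    exact ⟨_, (hwd l _ rfl).trans hl⟩
  have hbij : Function.Bijective φ :=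
    (Nat.bijective_iff_surjective_and_card φ).2 ⟨hsurj, by rw [card_pts hF hfr, hN]⟩
  refine ⟨Equiv.ofBijective φ hbij, fun l p => ?_⟩
  show φ _ = (l : G) • φ p
  refine (hwd (l * g p) _ ?_).trans (by rw [Subgroup.coe_mul, mul_smul])
  rw [map_mul, Subgroup.coe_mul, Equiv.Perm.mul_apply, hg]

/-- The recognition. -/
theorem recognise {G Ω : Type*} [Group G] [Finite G] [MulAction G Ω] {n : ℕ} [CharP F 2]
    (h : Data G Ω n) (hF : Fintype.card F = (2 ^ n) ^ 2) (hN : Nat.card Ω = (2 ^ n) ^ 3 + 1)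
    (hV : ∀ a b : Ω, a ≠ b →
      Nat.card ↥(stabilizer G a ⊓ stabilizer G b ⊓ cen G a) = 2 ^ n + 1)
    {L : Subgroup G} (hLn : L.Normal) (ψ : L ≃* PSU 3 F (2 ^ n)) :
    Nonempty (G ≃* (GU 3 F (2 ^ n) ⧸ Subgroup.center (GU 3 F (2 ^ n)))) := by
  classical
  haveI := h.finite
  haveI := h.pretrans
  haveI := h.faithful
  obtain ⟨u, w, f, hfr⟩ := exists_frame (q := 2 ^ n) hF
  obtain ⟨i⟩ := map_top_equiv_psu (F := F) (q := 2 ^ n) hF
  let e : L ≃* ↥((⊤ : Subgroup (SU 3 F (2 ^ n))).map (suPerm (2 ^ n) F)) := ψ.trans i.symm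
  obtain ⟨Φ, hΦ⟩ := exists_points h hF hN hfr hLn e
  let ρ : G →* Equiv.Perm (IsoPoint 3 F (2 ^ n)) :=
    (Φ.symm.permCongrHom).toMonoidHom.comp (toPermHom G Ω)
  have hρ : ∀ (g : G) p, ρ g p = Φ.symm (g • Φ p) := fun g p => rfl
  have hρinj : Function.Injective ρ := by
    intro g g' hgg
    refine FaithfulSMul.eq_of_smul_eq_smul (α := Ω) fun y => ?_
    have := Equiv.ext_iff.1 hgg (Φ.symm y)
    rw [hρ, hρ, Φ.apply_symm_apply] at this
    exact Φ.symm.injective this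
  have hρL : ∀ l : L, ρ (l : G) = (e l : Equiv.Perm (IsoPoint 3 F (2 ^ n))) := fun l =>
    Equiv.ext fun p => by rw [hρ, ← hΦ, Φ.symm_apply_apply]
  have hlift : ∀ s : SU 3 F (2 ^ n), ∃ l : L, ρ (l : G) = suPerm (2 ^ n) F s := fun s =>
    ⟨e.symm ⟨_, Subgroup.mem_map_of_mem _ (Subgroup.mem_top s)⟩, by
      rw [hρL, e.apply_symm_apply]⟩
  set a := Φ (pu hfr) with ha
  set b := Φ (pf hfr) with hb
  have hne : pf hfr ≠ pu hfr := by
    have h0 := E_pf_ne_pu hF hfr (Ok.zero hF)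
    rwa [E_zero hF hfr, one_smul] at h0
  have hab : a ≠ b := fun e0 => hne (Φ.injective e0).symm
  obtain ⟨t, htρ⟩ := hlift (flip hF hfr)
  have htb : (t : G) • a = b := by
    have := Equiv.ext_iff.1 htρ (pu hfr)
    rw [hρ] at this
    change Φ.symm ((t : G) • a) = flip hF hfr • pu hfr at this
    rw [flip_pu, Equiv.symm_apply_eq] at this
    exact this
  have ht1 : (t : G) ≠ 1 := fun e0 => hab (by rw [← htb, e0, one_smul])
  have ht2 : (t : G) * t = 1 := hρinj (by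
    rw [map_mul, htρ, ← map_mul, flip_sq, map_one, map_one])
  -- the preimages of the unipotents
  choose x hx using fun p : {p : F × F // Ok (2 ^ n) p.1 p.2} => hlift (eSU hF (p.2.spec hfr))
  have hxinj : Function.Injective (fun p => ((x p : L) : G)) := fun p p' e0 => by
    have e1 : pE hF hfr p.2 = pE hF hfr p'.2 := by
      show suPerm (2 ^ n) F _ = suPerm (2 ^ n) F _
      rw [← hx p, ← hx p', show (x p : G) = x p' from e0]
    obtain ⟨h1, h2⟩ := pE_inj hF hfr p.2 p'.2 e1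
    exact Subtype.ext (Prod.ext h1 h2)
  have hxfix : ∀ p, (x p : G) • a = a := fun p => by
    have := Equiv.ext_iff.1 (hx p) (pu hfr)
    rw [hρ] at this
    change Φ.symm ((x p : G) • a) = eSU hF (p.2.spec hfr) • pu hfr at this
    rw [E_smul_pu hF hfr p.2, Equiv.symm_apply_eq] at this
    exact this
  have hxmul : ∀ p p' : {p : F × F // Ok (2 ^ n) p.1 p.2}, (x p : G) * x p' =
      x ⟨(_, _), p.2.add hF p'.2⟩ := fun p p' => hρinj (by
    rw [map_mul, hx, hx, hx, ← map_mul, E_mul hF hfr p.2 p'.2])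
  -- the involutions fixing `a`
  let ok0 : {β : F // β + β ^ 2 ^ n = 0} → {p : F × F // Ok (2 ^ n) p.1 p.2} :=
    fun β => ⟨(0, β.1), (ok_zero_iff hF).2 β.2⟩
  have hz0 : ∀ β, β.1 ≠ 0 → ((x (ok0 β) : G) ≠ 1 ∧ (x (ok0 β) : G) * x (ok0 β) = 1) ∧
      (x (ok0 β) : G) • a = a := by
    intro β hβ
    have hone : (x ⟨(0, 0), Ok.zero hF⟩ : G) = 1 := hρinj (by rw [hx, E_zero hF hfr, map_one, map_one])
    refine ⟨⟨fun e0 => hβ ?_, ?_⟩, hxfix _⟩
    · exact congrArg (fun p : {p : F × F // Ok (2 ^ n) p.1 p.2} => p.1.2)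
        (hxinj (e0.trans hone.symm) : ok0 β = ⟨(0, 0), Ok.zero hF⟩)
    · rw [hxmul, ← hone]
      refine congrArg (fun p : {p : F × F // Ok (2 ^ n) p.1 p.2} => ((x p : L) : G))
        (Subtype.ext (Prod.ext (add_zero 0) ?_))
      show β.1 + β.1 - 0 * (0 : F) ^ 2 ^ n = 0
      rw [zero_mul, sub_zero, CharTwo.add_self_eq_zero]
  have hinv : ∀ z : G, z ≠ 1 → z * z = 1 → z • a = a → ∃ β, z = (x (ok0 β) : G) := by
    intro z hz hz2 hza
    let f0 : {β : {β : F // β + β ^ 2 ^ n = 0} // β.1 ≠ 0} →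
        {z : G // (z ≠ 1 ∧ z * z = 1) ∧ z • a = a} := fun β => ⟨_, hz0 β.1 β.2⟩
    have hf0 : Function.Bijective f0 := by
      refine (Nat.bijective_iff_injective_and_card f0).2 ⟨fun β β' e0 => ?_, ?_⟩
      · exact Subtype.ext (Subtype.ext (congrArg
          (fun p : {p : F × F // Ok (2 ^ n) p.1 p.2} => p.1.2)
          (hxinj (congrArg (fun z : {z : G // (z ≠ 1 ∧ z * z = 1) ∧ z • a = a} => z.1) e0) :
            ok0 β.1 = ok0 β'.1)))
      · have hm : (⟨0, by simp⟩ : {β : F // β + β ^ 2 ^ n = 0}) ∈ Set.univ := trivial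
        have e2 := Set.ncard_sdiff_singleton_of_mem hm
        rw [Set.ncard_univ, card_trace_zero hF] at e2
        rw [h.card_fix a, ← e2, ← Nat.card_coe_set_eq]
        refine Nat.card_congr (Equiv.subtypeEquivRight fun β => ?_)
        simp [Subtype.ext_iff]
    obtain ⟨β, hβ⟩ := hf0.2 ⟨z, ⟨hz, hz2⟩, hza⟩
    exact ⟨β.1, (congrArg Subtype.val hβ).symm⟩
  have hxcen : ∀ p, (x p : G) ∈ cen G a := by
    intro p
    refine Subgroup.mem_centralizer_iff.2 ?_
    rintro z ⟨⟨hz, hz2⟩, hza⟩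
    obtain ⟨β, rfl⟩ := hinv z hz hz2 hza
    rw [hxmul, hxmul]
    refine congrArg (fun p : {p : F × F // Ok (2 ^ n) p.1 p.2} => ((x p : L) : G))
      (Subtype.ext (Prod.ext ?_ ?_))
    · show (0 : F) + p.1.1 = p.1.1 + 0
      ring
    · show β.1 + p.1.2 - p.1.1 * (0 : F) ^ 2 ^ n = p.1.2 + β.1 - 0 * p.1.1 ^ 2 ^ n
      rw [zero_pow (q_ne_zero hF)]
      ring
  obtain ⟨S, hSn, hSc, -⟩ := (h.shape_cen a).sylow
  haveI := hSn
  have hn1 : 1 ≤ n := by have := h.hn; omega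
  have hpow : ∀ p, (x p : G) ^ 2 ^ 2 = 1 := by
    intro p
    have h4 : ∀ y : G, y ^ 2 ^ 2 = y * y * (y * y) := fun y => by
      simp only [show (2 : ℕ) ^ 2 = 4 from rfl, pow_succ, pow_zero, one_mul, mul_assoc]
    have hone : (x ⟨(0, 0), Ok.zero hF⟩ : G) = 1 := hρinj (by rw [hx, E_zero hF hfr, map_one, map_one])
    rw [h4, hxmul, hxmul, ← hone]
    refine congrArg (fun p : {p : F × F // Ok (2 ^ n) p.1 p.2} => ((x p : L) : G))
      (Subtype.ext (Prod.ext ?_ ?_))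
    · show p.1.1 + p.1.1 + (p.1.1 + p.1.1) = 0
      simp [CharTwo.add_self_eq_zero]
    · show _ + _ - (p.1.1 + p.1.1) * (p.1.1 + p.1.1) ^ 2 ^ n = 0
      rw [CharTwo.add_self_eq_zero, CharTwo.add_self_eq_zero, zero_mul, sub_zero]
  have hfull : ∀ y : G, y ∈ cen G a → (∃ k : ℕ, y ^ 2 ^ k = 1) → ∃ p, y = (x p : G) := by
    intro y hy hk
    let f1 : {p : F × F // Ok (2 ^ n) p.1 p.2} → S := fun p =>
      ⟨⟨_, hxcen p⟩, (h.shape_cen a).two_le hn1 hSc (k := 2) (Subtype.ext (hpow p))⟩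
    have hf1 : Function.Bijective f1 := by
      refine (Nat.bijective_iff_injective_and_card f1).2 ⟨fun p p' e0 => ?_, ?_⟩
      · exact hxinj (congrArg (fun s : S => ((s : cen G a) : G)) e0)
      · rw [hSc, card_ok hF]
    obtain ⟨k, hk⟩ := hk
    obtain ⟨p, hp⟩ := hf1.2 ⟨⟨y, hy⟩, (h.shape_cen a).two_le hn1 hSc (k := k) (Subtype.ext hk)⟩
    exact ⟨p, (congrArg (fun s : S => ((s : cen G a) : G)) hp).symm⟩
  -- the elements of `V` become rotations
  set V := stabilizer G a ⊓ stabilizer G b ⊓ cen G a with hVdef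
  have hVt := (h.pair_facts hab ht1 ht2 htb).2.2
  have hrot : ∀ g : V, ∃ c : U1 (2 ^ n) F, ρ (g : G) = guPerm (2 ^ n) F (rot hF hfr c) := by
    rintro ⟨g, hgV⟩
    have hgt : g * (t : G) = t * g := Subgroup.mem_centralizer_singleton_iff.1
      (show g ∈ stabilizer G a ⊓ stabilizer G b ⊓ Subgroup.centralizer ({(t : G)} : Set G) from
        hVt ▸ hgV).2
    obtain ⟨⟨hga, hgb⟩, hgc⟩ := hgV
    have hπ : Normal4 hF hfr (ρ g) :=
      { fix_pu := by rw [hρ, show g • Φ (pu hfr) = a from hga, ha, Φ.symm_apply_apply]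
        fix_pf := by rw [hρ, show g • Φ (pf hfr) = b from hgb, hb, Φ.symm_apply_apply]
        flip_comm := by rw [← htρ, ← map_mul, hgt, map_mul]
        root_comm := fun β hβ => by
          show ρ g * suPerm (2 ^ n) F _ = suPerm (2 ^ n) F _ * ρ g
          rw [← hx ⟨(0, β), hβ⟩, ← map_mul, ← map_mul]
          congr 1
          rcases eq_or_ne β 0 with rfl | hβ0
          · rw [show ((x ⟨(0, 0), hβ⟩ : L) : G) = 1 from hρinj (by
              rw [hx, E_zero hF hfr, map_one, map_one]), mul_one, one_mul]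
          · exact (Subgroup.mem_centralizer_iff.1 hgc _
              (hz0 ⟨β, (ok_zero_iff hF).1 hβ⟩ hβ0)).symm
        norm := fun b' β' hb' => by
          obtain ⟨p, hp⟩ := hfull (g * x ⟨(b', β'), hb'⟩ * g⁻¹)
            (h.conj_mem_cen hga (hxcen _)) ⟨2, by rw [conj_pow, hpow, mul_one, mul_inv_cancel]⟩
          refine ⟨p.1.1, p.1.2, p.2, ?_⟩
          show ρ g * suPerm (2 ^ n) F _ = suPerm (2 ^ n) F _ * ρ g
          rw [← hx ⟨(b', β'), hb'⟩, ← hx p, ← map_mul, ← map_mul, ← hp, inv_mul_cancel_right] }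
    refine hπ.exists_rot fun h2 => ?_
    rw [← map_mul, ← map_one ρ] at h2
    have hg2 : g * g = 1 := hρinj h2
    rw [show g = 1 from H38.eq_one_of_mul_self_eq_one (h.odd_pair hab)
      (show g ∈ stabilizer G a ⊓ stabilizer G b from ⟨hga, hgb⟩) hg2, map_one]
  choose c hc using hrot
  have hcbij : Function.Bijective c := by
    refine (Nat.bijective_iff_injective_and_card c).2 ⟨fun g g' e0 => ?_, ?_⟩
    · exact Subtype.ext (hρinj (by rw [hc, hc, e0]))
    · rw [hV a b hab, card_ker_pow hF]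
  have hle : (guPerm (2 ^ n) F).range ≤ ρ.range := range_guPerm_le hF hfr
    (fun s => by obtain ⟨l, hl⟩ := hlift s; exact ⟨l, hl⟩)
    (fun c' => by obtain ⟨g, rfl⟩ := hcbij.2 c'; exact ⟨g, hc g⟩)
  have hcardG : Nat.card ρ.range = Nat.card (SU 3 F (2 ^ n)) := by
    rw [← Nat.card_congr (MonoidHom.ofInjective hρinj).toEquiv, H53.card_SU_three hF,
      ← (stabilizer G a).card_mul_index, index_stabilizer_of_transitive, hN, h.card_stab a]
    have : (2 ^ n) ^ 2 - 1 = (2 ^ n + 1) * (2 ^ n - 1) := by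
      simpa using Nat.sq_sub_sq (2 ^ n) 1
    rw [this]
    ring
  have heq : (guPerm (2 ^ n) F).range = ρ.range :=
    Subgroup.eq_of_le_of_card_ge hle (hcardG ▸ card_SU_le_range hF)
  obtain ⟨j⟩ := equiv_range (F := F) (q := 2 ^ n) hF
  exact ⟨((MonoidHom.ofInjective hρinj).trans (MulEquiv.subgroupCongr heq.symm)).trans j.symm⟩

end Cfsg.Agent.H91.PGUChar
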