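import Cfsg.Agent.H91.PGUChar.Model
import Cfsg.Agent.H99.RankOne.UnitaryModel

/-!
# The permutations of the isotropic points normalising a root group and commuting with the flip

A permutation fixing the points of `u` and `f`, commuting with the flip, fixing the central unipotents
and normalising the unipotent group is a rotation, if its square being one forces it to be one.
-/

set_option autoImplicit false
set_option linter.unusedSectionVars false

namespace Cfsg.Agent.H91.PGUChar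

open Cfsg MulAction Cfsg.Agent.Unitary Cfsg.Agent.H52.SUThree Cfsg.Agent.H72.PSUThree
open Cfsg.Agent.H99.RankOne
open Matrix hiding vec

variable {F : Type*} [Field F] [Fintype F] {q : ℕ} {u w f : Fin 3 → F}

/-- The action of `SU₃` on the isotropic points. -/
abbrev suPerm (q : ℕ) (F : Type*) [Field F] :
    SU 3 F q →* Equiv.Perm (IsoPoint 3 F q) :=
  toPermHom (SU 3 F q) (IsoPoint 3 F q)

/-- The permutation of a unipotent element. -/
noncomputable abbrev pE (hF : Fintype.card F = q ^ 2) (hfr : Frame q u w f) {b β : F} (h : Ok q b β) :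
    Equiv.Perm (IsoPoint 3 F q) :=
  suPerm q F (eSU hF (h.spec hfr))

theorem pE_inj (hF : Fintype.card F = q ^ 2) (hfr : Frame q u w f) {b β b' β' : F} (h : Ok q b β)
    (h' : Ok q b' β') (e : pE hF hfr h = pE hF hfr h') : b = b' ∧ β = β' :=
  E_pf_inj hF hfr h h' (Equiv.ext_iff.1 e (pf hfr))

theorem pE_congr (hF : Fintype.card F = q ^ 2) (hfr : Frame q u w f) {b β b' β' : F} (h : Ok q b β)
    (h' : Ok q b' β') (eb : b = b') (eβ : β = β') : pE hF hfr h = pE hF hfr h' := by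
  subst eb; subst eβ; rfl

theorem pE_mul (hF : Fintype.card F = q ^ 2) (hfr : Frame q u w f) {b β b' β' : F} (h : Ok q b β)
    (h' : Ok q b' β') : pE hF hfr h * pE hF hfr h' = pE hF hfr (h.add hF h') := by
  rw [← map_mul, E_mul hF hfr h h']

theorem pE_sq [CharP F 2] (hF : Fintype.card F = q ^ 2) (hfr : Frame q u w f) {b β : F} (h : Ok q b β)
    (h0 : Ok q (0 : F) (b * b ^ q)) : pE hF hfr h * pE hF hfr h = pE hF hfr h0 := by
  rw [pE_mul hF hfr h h]
  refine pE_congr hF hfr _ _ (CharTwo.add_self_eq_zero b) ?_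
  rw [CharTwo.add_self_eq_zero, zero_sub, CharTwo.neg_eq]

theorem ok_norm [CharP F 2] (hF : Fintype.card F = q ^ 2) (b : F) : Ok q (0 : F) (b * b ^ q) := by
  rw [ok_zero_iff hF, mul_pow, pow_q_q hF, mul_comm (b ^ q)]
  exact CharTwo.add_self_eq_zero _

/-- The hypotheses on a permutation. -/
structure Normal4 (hF : Fintype.card F = q ^ 2) (hfr : Frame q u w f)
    (π : Equiv.Perm (IsoPoint 3 F q)) : Prop where
  fix_pu : π (pu hfr) = pu hfr
  fix_pf : π (pf hfr) = pf hfr
  flip_comm : π * suPerm q F (flip hF hfr) = suPerm q F (flip hF hfr) * π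
  root_comm : ∀ (β : F) (h : Ok q (0 : F) β), π * pE hF hfr h = pE hF hfr h * π
  norm : ∀ (b β : F) (h : Ok q b β),
    ∃ (b' β' : F) (h' : Ok q b' β'), π * pE hF hfr h = pE hF hfr h' * π

theorem Normal4.sq {hF : Fintype.card F = q ^ 2} {hfr : Frame q u w f}
    {π : Equiv.Perm (IsoPoint 3 F q)} (hπ : Normal4 hF hfr π) : Normal4 hF hfr (π * π) where
  fix_pu := by rw [Equiv.Perm.mul_apply, hπ.fix_pu, hπ.fix_pu]
  fix_pf := by rw [Equiv.Perm.mul_apply, hπ.fix_pf, hπ.fix_pf]
  flip_comm := by rw [mul_assoc, hπ.flip_comm, ← mul_assoc, hπ.flip_comm, mul_assoc]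
  root_comm := fun β h => by rw [mul_assoc, hπ.root_comm β h, ← mul_assoc, hπ.root_comm β h, mul_assoc]
  norm := fun b β h => by
    obtain ⟨b₁, β₁, h₁, e₁⟩ := hπ.norm b β h
    obtain ⟨b₂, β₂, h₂, e₂⟩ := hπ.norm b₁ β₁ h₁
    exact ⟨b₂, β₂, h₂, by rw [mul_assoc, e₁, ← mul_assoc, e₂, mul_assoc]⟩

/-- An additive map preserving the norm is a rotation or a reflection. -/
theorem norm_additive [CharP F 2] (hF : Fintype.card F = q ^ 2) (A : F → F)
    (hadd : ∀ x y, A (x + y) = A x + A y) (hN : ∀ x, A x * A x ^ q = x * x ^ q) :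
    ∃ c : U1 q F, (∀ x, A x = ((c : Fˣ) : F) * x) ∨ ∀ x, A x = ((c : Fˣ) : F) * x ^ q := by
  set c := A 1 with hc
  have hc1 : c * c ^ q = 1 := by rw [hc, hN]; simp
  have hc0 : c ≠ 0 := fun h0 => by rw [h0, zero_mul] at hc1; exact zero_ne_one hc1
  have hmem : Units.mk0 c hc0 ∈ U1 q F := by
    rw [MonoidHom.mem_ker, powMonoidHom_apply]
    refine Units.ext ?_
    rw [Units.val_pow_eq_pow_val, Units.val_mk0, pow_succ', hc1, Units.val_one]
  -- reduce to `1 ↦ 1`
  set B := fun x => c ^ q * A x with hB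
  have hAB : ∀ x, A x = c * B x := fun x => by rw [hB, ← mul_assoc, hc1, one_mul]
  have hB1 : B 1 = 1 := by rw [hB]; show c ^ q * c = 1; rw [mul_comm, hc1]
  have hBadd : ∀ x y, B (x + y) = B x + B y := fun x y => by simp only [hB, hadd, mul_add]
  have hBN : ∀ x, B x * B x ^ q = x * x ^ q := fun x => by
    simp only [hB]
    rw [mul_pow, pow_q_q hF]
    linear_combination (A x * A x ^ q) * hc1 + hN x
  have htr : ∀ x, B x + B x ^ q = x + x ^ q := fun x => by
    have h := hBN (x + 1)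
    rw [hBadd, hB1, add_pow_q hF, add_pow_q hF, one_pow] at h
    linear_combination h - hBN x
  have hor : ∀ x, B x = x ∨ B x = x ^ q := fun x => by
    have h : (B x - x) * (B x - x ^ q) = 0 := by
      linear_combination (B x) * htr x - hBN x
    rcases mul_eq_zero.1 h with h | h
    · exact Or.inl (sub_eq_zero.1 h)
    · exact Or.inr (sub_eq_zero.1 h)
  refine ⟨⟨Units.mk0 c hc0, hmem⟩, ?_⟩
  show (∀ x, A x = c * x) ∨ ∀ x, A x = c * x ^ q
  by_contra hcon
  push Not at hcon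
  obtain ⟨⟨x, hx⟩, ⟨y, hy⟩⟩ := hcon
  have hx' : B x = x ^ q ∧ B x ≠ x := by
    have h1 : B x ≠ x := fun e => hx (by rw [hAB, e])
    exact ⟨(hor x).resolve_left h1, h1⟩
  have hy' : B y = y ∧ B y ≠ y ^ q := by
    have h1 : B y ≠ y ^ q := fun e => hy (by rw [hAB, e])
    exact ⟨(hor y).resolve_right h1, h1⟩
  have hxy := hBadd x y
  rw [hx'.1, hy'.1] at hxy
  rcases hor (x + y) with h | h <;> rw [h] at hxy
  · exact hx'.2 (hx'.1.trans (add_right_cancel hxy.symm))
  · rw [add_pow_q hF] at hxy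
    exact hy'.2 (hy'.1.trans (add_left_cancel hxy).symm)

/-- The first coordinate of the conjugated unipotents is a rotation or a reflection, and in the first
case the permutation is the rotation. -/
theorem Normal4.cases [CharP F 2] {hF : Fintype.card F = q ^ 2} {hfr : Frame q u w f}
    {π : Equiv.Perm (IsoPoint 3 F q)} (hπ : Normal4 hF hfr π) :
    ∃ c : U1 q F, π = guPerm q F (rot hF hfr c) ∨
      ∀ (b β : F) (h : Ok q b β), ∃ (β' : F) (h' : Ok q (((c : Fˣ) : F) * b ^ q) β'),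
        π * pE hF hfr h = pE hF hfr h' * π := by
  choose A B hok hAB using hπ.norm
  -- the image is determined
  have huniq : ∀ {b β : F} (h : Ok q b β) {b' β' : F} (h' : Ok q b' β'),
      π * pE hF hfr h = pE hF hfr h' * π → A b β h = b' ∧ B b β h = β' := @fun b β h b' β' h' e =>
    pE_inj hF hfr (hok _ _ h) h' (mul_right_cancel ((hAB _ _ h).symm.trans e))
  have hmul : ∀ {b β b' β' : F} (h : Ok q b β) (h' : Ok q b' β'),
      A _ _ (h.add hF h') = A b β h + A b' β' h' := @fun b β b' β' h h' =>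
    (huniq (h.add hF h') ((hok _ _ h).add hF (hok _ _ h')) (by
      rw [← pE_mul hF hfr h h', ← mul_assoc, hAB _ _ h, mul_assoc, hAB _ _ h', ← mul_assoc,
        pE_mul hF hfr (hok _ _ h) (hok _ _ h')])).1
  have hroot : ∀ {β : F} (h : Ok q (0 : F) β), A _ _ h = 0 ∧ B _ _ h = β := fun h =>
    huniq h h (hπ.root_comm _ h)
  have hAcongr : ∀ {b β b' β' : F} (h : Ok q b β) (h' : Ok q b' β'), b = b' → β = β' →
      A b β h = A b' β' h' := by
    intro b β b' β' h h' e e'
    subst e; subst e'; rfl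
  have hind : ∀ {b β β' : F} (h : Ok q b β) (h' : Ok q b β'), A b β h = A b β' h' := by
    intro b β β' h h'
    have h0 : Ok q (0 : F) (β' - β) := by
      rw [ok_zero_iff hF, sub_pow_q hF]
      have h1 : β + β ^ q + b * b ^ q = 0 := h
      have h2 : β' + β' ^ q + b * b ^ q = 0 := h'
      linear_combination h2 - h1
    have e := hmul h h0
    rw [(hroot h0).1] at e
    exact ((e.trans (add_zero _)).symm).trans (hAcongr _ _ (add_zero b) (by ring))
  choose β₀ hβ₀ using fun b : F => exists_ok (q := q) hF b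
  set A₀ := fun b => A b (β₀ b) (hβ₀ b) with hA₀
  have hA : ∀ {b β : F} (h : Ok q b β), A b β h = A₀ b := fun h => hind h _
  have hadd : ∀ x y, A₀ (x + y) = A₀ x + A₀ y := fun x y => by
    rw [← hA ((hβ₀ x).add hF (hβ₀ y)), hmul]
  have hN : ∀ x, A₀ x * A₀ x ^ q = x * x ^ q := fun x => by
    have e1 : π * pE hF hfr (ok_norm hF x) = pE hF hfr (ok_norm hF (A₀ x)) * π := by
      rw [← pE_sq hF hfr (hβ₀ x) (ok_norm hF x),
        ← pE_sq hF hfr (hok _ _ (hβ₀ x)) (ok_norm hF (A₀ x)),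
        ← mul_assoc, hAB _ _ (hβ₀ x), mul_assoc, hAB _ _ (hβ₀ x), ← mul_assoc]
    rw [← (huniq _ _ e1).2, (hroot (ok_norm hF x)).2]
  obtain ⟨c, hc | hc⟩ := norm_additive hF A₀ hadd hN
  swap
  · refine ⟨c, Or.inr fun b β h => ?_⟩
    have e := hA h
    rw [hc] at e
    have h' : Ok q (((c : Fˣ) : F) * b ^ q) (B b β h) := e ▸ hok b β h
    exact ⟨_, h', by rw [hAB _ _ h, pE_congr hF hfr (hok _ _ h) h' e rfl]⟩
  refine ⟨c, Or.inl ?_⟩
  have hne : ∀ {b β : F}, Ok q b β → b ≠ 0 → β ≠ 0 := by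
    intro b β h hb h0
    have h1 : β + β ^ q + b * b ^ q = 0 := h
    rw [h0, zero_pow (q_ne_zero hF), add_zero, zero_add] at h1
    exact hb ((mul_eq_zero.1 h1).elim id (pow_q_eq_zero_iff hF).1)
  have hc0 : ((c : Fˣ) : F) ≠ 0 := (c : Fˣ).ne_zero
  have hpt : ∀ {b β : F} (h : Ok q b β),
      π (eSU hF (h.spec hfr) • pf hfr) = eSU hF ((hok b β h).spec hfr) • pf hfr := by
    intro b β h
    have e := Equiv.ext_iff.1 (hAB b β h) (pf hfr)
    rw [Equiv.Perm.mul_apply, Equiv.Perm.mul_apply, hπ.fix_pf] at e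
    exact e
  have hB : ∀ {b β : F} (h : Ok q b β), B b β h = β := by
    intro b β h
    rcases eq_or_ne b 0 with rfl | hb
    · exact (hroot h).2
    have hβ := hne h hb
    have hb' : ((c : Fˣ) : F) * b ≠ 0 := mul_ne_zero hc0 hb
    have hBne : B b β h ≠ 0 := hne (hok b β h) (by rw [hA h, hc]; exact hb')
    have hflip : ∀ {b β : F}, Ok q b β → β ≠ 0 → Ok q (-(b / β)) β⁻¹ := by
      intro b β h hβ
      have h1 : β + β ^ q + b * b ^ q = 0 := h
      have hβq := (pow_q_eq_zero_iff hF).not.2 hβ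
      simp only [Ok, neg_pow_q hF, div_pow, inv_pow]
      field_simp
      linear_combination h1
    have h₁ := hflip h hβ
    have h₂ := hflip (hok b β h) hBne
    have e := Equiv.ext_iff.1 hπ.flip_comm (eSU hF (h.spec hfr) • pf hfr)
    rw [Equiv.Perm.mul_apply, Equiv.Perm.mul_apply, hpt h] at e
    change π (flip hF hfr • eSU hF (h.spec hfr) • pf hfr) =
      flip hF hfr • eSU hF ((hok b β h).spec hfr) • pf hfr at e
    rw [flip_E_pf hF hfr h h₁ hβ rfl rfl, flip_E_pf hF hfr (hok b β h) h₂ hBne rfl rfl,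
      hpt h₁] at e
    have e1 := (E_pf_inj hF hfr (hok _ _ h₁) h₂ e).1
    rw [hA h₁, hA h, hc, hc, mul_neg, neg_inj, ← mul_div_assoc] at e1
    rw [div_eq_div_iff hβ hBne] at e1
    exact mul_left_cancel₀ hb' e1
  refine Equiv.ext fun p => ?_
  show π p = rot hF hfr c • p
  rcases eq_or_ne p (pu hfr) with rfl | hp
  · rw [hπ.fix_pu, rot_smul_pu]
  · obtain ⟨b, β, h, rfl⟩ := exists_E_pf hF hfr hp
    rw [hpt h, rot_smul_E_pf hF hfr c h,
      E_congr hF hfr (hok b β h) (ok_rot hF c h) (by rw [hA h, hc]) (hB h)]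

theorem exists_not_fixed (hF : Fintype.card F = q ^ 2) : ∃ x : F, x ^ q ≠ x := by
  by_contra hcon
  push Not at hcon
  have hq := two_le_q hF
  have h1 : ∀ a : Fˣ, a ∈ (powMonoidHom (q - 1) : Fˣ →* Fˣ).ker := fun a =>
    MonoidHom.mem_ker.2 (Units.ext (by
      rw [powMonoidHom_apply, Units.val_pow_eq_pow_val, Units.val_one,
        pow_sub_one_eq_one hF a.ne_zero (hcon _)]))
  have h2 := card_ker_pow_sub (F := F) hF
  rw [(Subgroup.eq_top_iff' _).2 h1, Subgroup.card_top, card_units hF] at h2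
  nlinarith [Nat.sub_pos_of_lt (show 1 < q by omega)]

/-- The recognition of the rotations. -/
theorem Normal4.exists_rot [CharP F 2] {hF : Fintype.card F = q ^ 2} {hfr : Frame q u w f}
    {π : Equiv.Perm (IsoPoint 3 F q)} (hπ : Normal4 hF hfr π) (hodd : π * π = 1 → π = 1) :
    ∃ c : U1 q F, π = guPerm q F (rot hF hfr c) := by
  obtain ⟨c, h | h⟩ := hπ.cases
  · exact ⟨c, h⟩
  exfalso
  obtain ⟨x, hx⟩ := exists_not_fixed (q := q) hF
  have hkey : ∀ (b β : F) (hb : Ok q b β), ∃ (β' : F) (h' : Ok q b β'),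
      π * π * pE hF hfr hb = pE hF hfr h' * (π * π) := by
    intro b β hb
    obtain ⟨β₁, h₁, e₁⟩ := h b β hb
    obtain ⟨β₂, h₂, e₂⟩ := h _ _ h₁
    have eb : ((c : Fˣ) : F) * (((c : Fˣ) : F) * b ^ q) ^ q = b := by
      rw [mul_pow, pow_q_q hF]
      linear_combination b * U1_spec c
    have h₂' : Ok q b β₂ := eb ▸ h₂
    exact ⟨β₂, h₂', by rw [mul_assoc, e₁, ← mul_assoc, e₂, mul_assoc,
      pE_congr hF hfr h₂ h₂' eb rfl]⟩
  -- the square is the identity rotation
  have hsq : π * π = 1 := by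
    obtain ⟨d, hd | hd⟩ := hπ.sq.cases
    · obtain ⟨β, hβ⟩ := exists_ok (q := q) hF (1 : F)
      obtain ⟨β', h', e⟩ := hkey 1 β hβ
      have e' := Equiv.ext_iff.1 e (pf hfr)
      rw [Equiv.Perm.mul_apply, Equiv.Perm.mul_apply _ (π * π), hπ.sq.fix_pf, hd] at e'
      change rot hF hfr d • eSU hF (hβ.spec hfr) • pf hfr = eSU hF (h'.spec hfr) • pf hfr at e'
      rw [rot_smul_E_pf hF hfr d hβ] at e'
      have := (E_pf_inj hF hfr (ok_rot hF d hβ) h' e').1
      rw [mul_one] at this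
      rw [hd, show d = 1 from Subtype.ext (Units.ext this), map_one, map_one]
    · exfalso
      have hfix : ∀ b : F, ((d : Fˣ) : F) * b ^ q = b := fun b => by
        obtain ⟨β, hβ⟩ := exists_ok (q := q) hF b
        obtain ⟨β₁, h₁, e₁⟩ := hd b β hβ
        obtain ⟨β₂, h₂, e₂⟩ := hkey b β hβ
        exact (pE_inj hF hfr h₁ h₂ (mul_right_cancel (e₁.symm.trans e₂))).1
      have h1 := hfix 1
      rw [one_pow, mul_one] at h1
      have h2 := hfix x
      rw [h1, one_mul] at h2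
      exact hx h2
  obtain ⟨β, hβ⟩ := exists_ok (q := q) hF x
  obtain ⟨β', h', e⟩ := h x β hβ
  rw [hodd hsq, one_mul, mul_one] at e
  have h3 := (pE_inj hF hfr hβ h' e).1
  obtain ⟨β₁, hβ₁⟩ := exists_ok (q := q) hF (1 : F)
  obtain ⟨β₁', h₁', e₁⟩ := h 1 β₁ hβ₁
  rw [hodd hsq, one_mul, mul_one] at e₁
  have h4 := (pE_inj hF hfr hβ₁ h₁' e₁).1
  rw [one_pow, mul_one] at h4
  rw [← h4, one_mul] at h3
  exact hx h3.symm

end Cfsg.Agent.H91.PGUChar
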